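import Mathlib.GroupTheory.Solvable
import Mathlib.GroupTheory.Perm.Sign
import Mathlib.GroupTheory.Perm.Basic
import Mathlib.Data.ZMod.Basic
import Mathlib.Algebra.CharP.Lemmas
import Mathlib.Algebra.Polynomial.AlgebraMap
import Mathlib.Algebra.Field.ZMod
import Mathlib.GroupTheory.Perm.Support
import Mathlib.GroupTheory.OrderOfElement
import Mathlib.Algebra.Algebra.ZMod
import Mathlib.Logic.Equiv.Fintype
import Mathlib.Tactic.Group
import Mathlib.GroupTheory.SpecificGroups.Cyclic
import Mathlib.GroupTheory.Perm.Cycle.Type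

/-!
Pairs of `p`-elements generating non-solvable permutation groups: the transitive piece,
with one of the two elements a cycle through all `p ^ a` points.
-/

set_option autoImplicit false

open Equiv Polynomial

namespace CfsgLib.AltPPair

/-- A nilpotent endomorphism of a group of order `p ^ a` kills everything after `a` steps. -/
theorem nilpotent_pow_eq_zero {V : Type*} [AddCommGroup V] [Finite V] {p a : ℕ} (hp : p.Prime)
    (hV : Nat.card V = p ^ a) (ψ : AddMonoid.End V) (hψ : IsNilpotent ψ) : ψ ^ a = 0 := by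
  obtain ⟨N, hN⟩ := hψ
  have key : ∀ k, k ≤ a → Nat.card ((ψ ^ k : AddMonoid.End V) : V →+ V).range ∣ p ^ (a - k) := by
    intro k hk
    induction k with
    | zero =>
      rw [Nat.sub_zero, ← hV]
      exact AddSubgroup.card_addSubgroup_dvd_card _
    | succ k ih =>
      obtain ⟨j, hj, hjc⟩ := (Nat.dvd_prime_pow hp).1 (ih (by omega))
      set A := ((ψ ^ k : AddMonoid.End V) : V →+ V).range
      set B := ((ψ ^ (k + 1) : AddMonoid.End V) : V →+ V).range
      have hBA : B ≤ A := by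
        rintro x ⟨y, rfl⟩
        exact ⟨ψ y, by rw [pow_succ]; rfl⟩
      have hdvd : Nat.card B ∣ p ^ j := hjc ▸ AddSubgroup.card_dvd_of_le hBA
      obtain ⟨i, hi, hic⟩ := (Nat.dvd_prime_pow hp).1 hdvd
      rw [hic]
      refine pow_dvd_pow p ?_
      by_contra hgt
      have hij : i = j := by omega
      have hAB : B = A := AddSubgroup.eq_of_le_of_card_ge hBA (by rw [hic, hjc, hij])
      have hstab : ∀ m, A ≤ ((ψ ^ (k + m) : AddMonoid.End V) : V →+ V).range := by
        intro m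
        induction m with
        | zero => exact le_rfl
        | succ m ihm =>
          intro x hx
          obtain ⟨y, hy⟩ := ihm hx
          have hy' : (ψ ^ k) y ∈ B := by rw [hAB]; exact ⟨y, rfl⟩
          obtain ⟨z, hz⟩ := hy'
          refine ⟨z, ?_⟩
          have hz' : (ψ ^ (k + 1)) z = (ψ ^ k) y := hz
          have hy2 : (ψ ^ (k + m)) y = x := hy
          show (ψ ^ (k + (m + 1))) z = x
          rw [show k + (m + 1) = m + (k + 1) by omega, pow_add, AddMonoid.End.coe_mul,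
            Function.comp_apply, hz', ← hy2, Nat.add_comm k m, pow_add, AddMonoid.End.coe_mul,
            Function.comp_apply]
      have hA : A = ⊥ := by
        rw [eq_bot_iff]
        intro x hx
        obtain ⟨y, hy⟩ := hstab N hx
        rw [AddSubgroup.mem_bot, ← hy]
        show (ψ ^ (k + N)) y = 0
        rw [pow_add, hN, mul_zero]
        rfl
      rw [hA, AddSubgroup.card_bot] at hjc
      have : j = 0 := by
        rcases Nat.eq_zero_or_pos j with h | h
        · exact h
        · have := Nat.one_lt_pow h.ne' hp.one_lt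
          omega
      omega
  have h := key a le_rfl
  rw [Nat.sub_self, pow_zero, Nat.dvd_one, AddSubgroup.card_eq_one] at h
  ext x
  have hx : (ψ ^ a) x ∈ ((ψ ^ a : AddMonoid.End V) : V →+ V).range := ⟨x, rfl⟩
  rw [h, AddSubgroup.mem_bot] at hx
  exact hx

theorem succ_le_pred_pow {p a : ℕ} (hp : 3 ≤ p) (ha : 2 ≤ a) : a + 1 ≤ p ^ (a - 1) := by
  induction a, ha using Nat.le_induction with
  | base => simpa using hp
  | succ m hm ih =>
    obtain ⟨l, rfl⟩ : ∃ l, m = l + 1 := ⟨m - 1, by omega⟩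
    simp only [Nat.add_sub_cancel] at ih ⊢
    rw [pow_succ]
    nlinarith

/-- If `p ^ a` is the order of `V`, `φ ^ (p ^ a) = 1` and `p V = 0`, then the sum of the first
`p ^ (a - 1)` powers of `φ` is zero. -/
theorem sum_pow_eq_zero {V : Type*} [AddCommGroup V] [Finite V] {p a : ℕ} [Fact p.Prime]
    (hp3 : 3 ≤ p) (ha : 2 ≤ a) (hV : Nat.card V = p ^ a) (hexp : ∀ v : V, p • v = 0)
    (φ : AddMonoid.End V) (hφ : φ ^ (p ^ a) = 1) :
    ∑ i ∈ Finset.range (p ^ (a - 1)), φ ^ i = 0 := by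
  have hp : p.Prime := Fact.out
  have hz : (p : AddMonoid.End V) = 0 := by
    ext v
    rw [AddMonoid.End.natCast_apply]
    exact hexp v
  haveI : Nontrivial V := Finite.one_lt_card_iff_nontrivial.1
    (hV ▸ Nat.one_lt_pow (by omega) hp.one_lt)
  haveI : Nontrivial (AddMonoid.End V) := by
    refine ⟨⟨1, 0, fun h => ?_⟩⟩
    obtain ⟨v, hv⟩ := exists_ne (0 : V)
    exact hv (DFunLike.congr_fun h v)
  haveI : CharP (AddMonoid.End V) p := by
    have h1 : ringChar (AddMonoid.End V) ∣ p := ringChar.dvd hz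
    rcases (Nat.dvd_prime hp).1 h1 with h | h
    · haveI := ringChar.charP (AddMonoid.End V)
      rw [h] at this
      exact absurd (CharP.cast_eq_zero (AddMonoid.End V) 1) (by rw [Nat.cast_one]; exact one_ne_zero)
    · exact ringChar.of_eq h
  letI : Algebra (ZMod p) (AddMonoid.End V) := ZMod.algebra _ p
  have e1 : (X - 1 : (ZMod p)[X]) ^ (p ^ a) = X ^ (p ^ a) - 1 := by
    rw [sub_pow_char_pow, one_pow]
  have e2 : (∑ i ∈ Finset.range (p ^ (a - 1)), (X : (ZMod p)[X]) ^ i) =
      (X - 1) ^ (p ^ (a - 1) - 1) := by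
    apply mul_right_cancel₀ ((by simpa using X_sub_C_ne_zero (1 : ZMod p) : (X : (ZMod p)[X]) - 1 ≠ 0))
    rw [geom_sum_mul, ← pow_succ, Nat.sub_add_cancel (Nat.one_le_pow _ _ hp.pos), sub_pow_char_pow,
      one_pow]
  have e1' := congrArg (aeval φ) e1
  simp only [map_pow, map_sub, map_one, aeval_X, hφ, sub_self] at e1'
  have e2' := congrArg (aeval φ) e2
  simp only [map_pow, map_sub, map_one, aeval_X, map_sum] at e2'
  have hnil := nilpotent_pow_eq_zero hp hV (φ - 1) ⟨_, e1'⟩
  rw [e2']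
  have := succ_le_pred_pow hp3 ha
  exact pow_eq_zero_of_le (by omega) hnil

/-- A permutation with a point in a cycle of length prime to `p` has no `p`-power order. -/
theorem not_ppow {α : Type*} {p m : ℕ} (P : Perm α) (x : α) (hm : m.Coprime p) (hx : (P ^ m) x = x)
    (hne : P x ≠ x) : ∀ k, P ^ (p ^ k) ≠ 1 := by
  intro k hk
  have h1 : Function.IsPeriodicPt P (p ^ k) x := by
    show (P : α → α)^[p ^ k] x = x
    rw [← Equiv.Perm.coe_pow, hk]; rfl
  have h2 : Function.IsPeriodicPt P m x := by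
    show (P : α → α)^[m] x = x
    rw [← Equiv.Perm.coe_pow]; exact hx
  have h3 := h2.gcd h1
  rw [Nat.Coprime.gcd_eq_one (hm.pow_right k)] at h3
  exact hne h3

/-- In a solvable group a non-trivial normal abelian subgroup exists. -/
theorem exists_abelian_normal {G : Type*} [Group G] [Group.IsSolvable G] [Nontrivial G] :
    ∃ N : Subgroup G, N.Normal ∧ N ≠ ⊥ ∧ ∀ x ∈ N, ∀ y ∈ N, x * y = y * x := by
  classical
  have hex : ∃ n, derivedSeries G n = ⊥ := Group.IsSolvable.solvable
  have hn0 : Nat.find hex ≠ 0 := by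
    intro h0
    have := Nat.find_spec hex
    rw [h0, derivedSeries_zero] at this
    exact top_ne_bot this
  refine ⟨derivedSeries G (Nat.find hex - 1), derivedSeries_normal _ _,
    Nat.find_min hex (by omega), fun x hx y hy => ?_⟩
  have hm := Nat.find_spec hex
  obtain ⟨m, hm'⟩ : ∃ m, Nat.find hex = m + 1 := ⟨Nat.find hex - 1, by omega⟩
  rw [hm', derivedSeries_succ] at hm
  rw [hm', Nat.add_sub_cancel] at hx hy
  have := Subgroup.commutator_mem_commutator hx hy
  rw [hm, Subgroup.mem_bot] at this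
  exact commutatorElement_eq_one_iff_mul_comm.1 this

section
variable {p a q : ℕ} [Fact p.Prime] [NeZero q]

theorem addRight_pow (n : ℕ) (x : ZMod q) :
    ((Equiv.addRight (1 : ZMod q)) ^ n : Perm (ZMod q)) x = x + n := by
  induction n with
  | zero => simp
  | succ n ih =>
    rw [pow_succ', Perm.mul_apply, ih, Equiv.coe_addRight, Nat.cast_succ]; exact add_assoc _ _ _

theorem natCast_inj_lt {b c : ℕ} (hb : b < q) (hc : c < q) :
    ((b : ZMod q) = c) ↔ b = c := by
  refine ⟨fun h => ?_, fun h => by rw [h]⟩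
  have := congrArg ZMod.val h
  rwa [ZMod.val_natCast_of_lt hb, ZMod.val_natCast_of_lt hc] at this

/-- Witness that no block system is preserved. -/
def Mixes (q p a : ℕ) (L : Subgroup (Perm (ZMod q))) (hpq : p ∣ q) : Prop :=
  ∃ c ∈ L, ∃ x : ZMod q, ZMod.castHom hpq (ZMod p) (c (x + (p ^ (a - 1) : ℕ))) ≠
    ZMod.castHom hpq (ZMod p) (c x)

theorem normal_transitive (hq : q = p ^ a) (ha : 1 ≤ a) (hpq : p ∣ q) (L : Subgroup (Perm (ZMod q)))
    (hu : Equiv.addRight (1 : ZMod q) ∈ L) (hmix : 2 ≤ a → Mixes q p a L hpq)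
    (N : Subgroup L) [N.Normal] (hN : N ≠ ⊥) (x : ZMod q) :
    ∃ n ∈ N, ((n : L) : Perm (ZMod q)) 0 = x := by
  have hp : p.Prime := Fact.out
  let R : ZMod q → ZMod q → Prop := fun x y => ∃ n ∈ N, ((n : L) : Perm (ZMod q)) x = y
  have hinv : ∀ (l : L) (x y : ZMod q), R x y → R ((l : Perm (ZMod q)) x) ((l : Perm (ZMod q)) y) := by
    rintro l x y ⟨n, hn, hxy⟩
    refine ⟨l * n * l⁻¹, Subgroup.Normal.conj_mem inferInstance n hn l, ?_⟩
    simp [Perm.mul_apply, hxy]
  have hshift : ∀ (t : ZMod q) (x y : ZMod q), R x y → R (x + t) (y + t) := by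
    intro t x y h
    have := hinv (⟨Equiv.addRight (1 : ZMod q), hu⟩ ^ t.val) x y h
    simpa [addRight_pow] using this
  let H : AddSubgroup (ZMod q) :=
  { carrier := {k | R 0 k}
    zero_mem' := ⟨1, N.one_mem, rfl⟩
    add_mem' := by
      intro b c hb hc
      obtain ⟨n, hn, hnb⟩ := hb
      obtain ⟨m, hm, hmc⟩ := hshift b _ _ hc
      refine ⟨m * n, N.mul_mem hm hn, ?_⟩
      rw [zero_add, add_comm c b] at *
      simp [Perm.mul_apply, hnb, hmc]
    neg_mem' := by
      intro b hb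
      obtain ⟨n, hn, hnb⟩ := hshift (-b) _ _ hb
      refine ⟨n⁻¹, N.inv_mem hn, ?_⟩
      rw [zero_add, add_neg_cancel] at hnb
      simp [← hnb] }
  by_contra hno
  have hx : x ∉ H := hno
  have hbot : H ≠ ⊥ := by
    intro hH
    refine hN (eq_bot_iff.2 fun n hn => ?_)
    rw [Subgroup.mem_bot]
    refine Subtype.ext (Equiv.ext fun y => ?_)
    obtain ⟨m, hm, hmy⟩ := hshift (-y) y _ ⟨n, hn, rfl⟩
    rw [add_neg_cancel] at hmy
    have hmem : ((n : L) : Perm (ZMod q)) y + -y ∈ H := ⟨m, hm, hmy⟩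
    rw [hH, AddSubgroup.mem_bot, add_neg_eq_zero] at hmem
    simpa using hmem
  have hzero : ∀ k ∈ H, ZMod.castHom hpq (ZMod p) k = 0 := by
    intro k hk
    by_contra hk0
    apply hx
    have hcop : k.val.Coprime q := by
      refine Nat.Coprime.coprime_dvd_right (dvd_of_eq hq) (Nat.Coprime.pow_right _
        (Nat.Coprime.symm (hp.coprime_iff_not_dvd.2 fun hd => hk0 ?_)))
      rw [← ZMod.natCast_zmod_val k, map_natCast, ZMod.natCast_eq_zero_iff]
      exact hd
    obtain ⟨j, hj⟩ : ∃ j : ZMod q, j * k = 1 := by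
      refine ⟨((ZMod.unitOfCoprime k.val hcop)⁻¹ : (ZMod q)ˣ), ?_⟩
      conv_lhs => arg 2; rw [← ZMod.natCast_zmod_val k, ← ZMod.coe_unitOfCoprime k.val hcop]
      exact Units.inv_mul _
    have := H.nsmul_mem hk (x * j).val
    rwa [nsmul_eq_mul, ZMod.natCast_zmod_val, mul_assoc, hj, mul_one] at this
  rcases Nat.lt_or_ge a 2 with ha2 | ha2
  · apply hbot
    rw [eq_bot_iff]
    intro k hk
    have h1 := hzero k hk
    have : a = 1 := by omega
    rw [this, pow_one] at hq
    subst hq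
    simpa using h1
  · obtain ⟨c, hc, y, hy⟩ := hmix ha2
    have hQ : ((p ^ (a - 1) : ℕ) : ZMod q) ∈ H := by
      obtain ⟨k, hk, hk0⟩ := AddSubgroup.bot_or_exists_ne_zero H |>.resolve_left hbot
      have hcard : Nat.card (ZMod q) = p ^ a := by rw [Nat.card_zmod, hq]
      obtain ⟨i, hi, hik⟩ := (Nat.dvd_prime_pow hp).1 (hcard ▸ addOrderOf_dvd_natCard k)
      have hi0 : i ≠ 0 := by
        intro h0
        rw [h0, pow_zero, AddMonoid.addOrderOf_eq_one_iff] at hik
        exact hk0 hik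
      set k' := p ^ (i - 1) • k with hk'
      have hk'H : k' ∈ H := H.nsmul_mem hk _
      have hk'0 : k' ≠ 0 := fun h => by
        have := addOrderOf_le_of_nsmul_eq_zero (Nat.pow_pos hp.pos) h
        rw [hik] at this
        exact absurd this (not_le.2 (Nat.pow_lt_pow_right hp.one_lt (by omega)))
      have hpk : p • k' = 0 := by
        rw [hk', ← mul_nsmul, ← pow_succ, show i - 1 + 1 = i by omega, ← hik]
        exact addOrderOf_nsmul_eq_zero k
      have hd : p ^ (a - 1) ∣ k'.val := by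
        rw [nsmul_eq_mul, ← ZMod.natCast_zmod_val k', ← Nat.cast_mul,
          ZMod.natCast_eq_zero_iff] at hpk
        have hqp : q = p * p ^ (a - 1) := by rw [hq, ← pow_succ', show a - 1 + 1 = a by omega]
        replace hpk : p * p ^ (a - 1) ∣ p * k'.val := hqp ▸ hpk
        exact Nat.dvd_of_mul_dvd_mul_left hp.pos hpk
      obtain ⟨j, hj⟩ := hd
      have hjp : ¬ p ∣ j := by
        rintro ⟨l, rfl⟩
        apply hk'0
        rw [← ZMod.natCast_zmod_val k', hj, ← mul_assoc, ← pow_succ, show a - 1 + 1 = a by omega,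
          ← hq, Nat.cast_mul, ZMod.natCast_self, zero_mul]
      have hcop : j.Coprime q := hq ▸ Nat.Coprime.pow_right _
        (Nat.Coprime.symm (hp.coprime_iff_not_dvd.2 hjp))
      have := H.nsmul_mem hk'H ((ZMod.unitOfCoprime j hcop)⁻¹ : (ZMod q)ˣ).val.val
      rwa [nsmul_eq_mul, ZMod.natCast_zmod_val, ← ZMod.natCast_zmod_val k', hj, Nat.cast_mul,
        mul_left_comm, ← ZMod.coe_unitOfCoprime j hcop, Units.inv_mul, mul_one] at this
    have hR : R y (y + (p ^ (a - 1) : ℕ)) := by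
      have := hshift y _ _ hQ
      rwa [zero_add, add_comm] at this
    obtain ⟨n, hn, hn'⟩ := hshift (-(c y)) _ _ (hinv ⟨c, hc⟩ _ _ hR)
    rw [add_neg_cancel] at hn'
    have h2 := hzero _ ⟨n, hn, hn'⟩
    rw [← sub_eq_add_neg, map_sub, sub_eq_zero] at h2
    exact hy h2

/-- A solvable group containing the translation by one and preserving no block system has a
regular normal abelian subgroup of exponent `p`. -/
theorem exists_regular (hq : q = p ^ a) (ha : 1 ≤ a) (hpq : p ∣ q) (L : Subgroup (Perm (ZMod q)))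
    [Group.IsSolvable L] (hu : Equiv.addRight (1 : ZMod q) ∈ L)
    (hmix : 2 ≤ a → Mixes q p a L hpq) :
    ∃ N : Subgroup L, N.Normal ∧ (∀ x ∈ N, ∀ y ∈ N, x * y = y * x) ∧ Nat.card N = q ∧
      (∀ x : ZMod q, ∃ n ∈ N, ((n : L) : Perm (ZMod q)) 0 = x) ∧
      (∀ n ∈ N, ∀ x : ZMod q, ((n : L) : Perm (ZMod q)) x = x → n = 1) ∧
      ∀ n ∈ N, n ^ p = 1 := by
  have hp : p.Prime := Fact.out
  haveI : Fact (1 < q) := ⟨hq ▸ Nat.one_lt_pow (by omega) hp.one_lt⟩
  haveI : Nontrivial L := ⟨⟨⟨_, hu⟩, 1, fun h => by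
    have := congrArg (fun l : L => (l : Perm (ZMod q)) 0) h
    simp at this⟩⟩
  obtain ⟨N, hNn, hN, hab⟩ := exists_abelian_normal (G := L)
  haveI := hNn
  have htr := normal_transitive hq ha hpq L hu hmix N hN
  have hfix : ∀ n ∈ N, ∀ x : ZMod q, ((n : L) : Perm (ZMod q)) x = x → n = 1 := by
    intro n hn x hx
    refine Subtype.ext (Equiv.ext fun y => ?_)
    obtain ⟨m1, hm1, h1⟩ := htr x
    obtain ⟨m2, hm2, h2⟩ := htr y
    have h0 : ((n : L) : Perm (ZMod q)) 0 = 0 := by
      apply (m1 : Perm (ZMod q)).injective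
      have := congrArg (fun l : L => (l : Perm (ZMod q)) 0) (hab m1 hm1 n hn)
      simp only [Subgroup.coe_mul, Perm.mul_apply, h1] at this
      rw [this, hx, h1]
    have := congrArg (fun l : L => (l : Perm (ZMod q)) 0) (hab n hn m2 hm2)
    simp only [Subgroup.coe_mul, Perm.mul_apply, h2, h0] at this
    simpa using this
  have hbij : Function.Bijective fun n : N => (((n : L) : Perm (ZMod q)) 0) := by
    refine ⟨fun n m h => ?_, fun x => ?_⟩
    · have := hfix (m⁻¹ * n : N) (SetLike.coe_mem _) 0 (by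
        simpa [Perm.mul_apply, Equiv.symm_apply_eq, Perm.inv_def] using h)
      exact (inv_mul_eq_one.1 (Subtype.ext this : (m⁻¹ * n : N) = 1)).symm
    · obtain ⟨n, hn, h⟩ := htr x
      exact ⟨⟨n, hn⟩, h⟩
  have hcard : Nat.card N = q := by rw [Nat.card_eq_of_bijective _ hbij, Nat.card_zmod]
  let M : Subgroup L :=
  { carrier := {n | n ∈ N ∧ n ^ p = 1}
    one_mem' := ⟨N.one_mem, one_pow p⟩
    mul_mem' := fun {x y} hx hy => ⟨N.mul_mem hx.1 hy.1, by
      rw [Commute.mul_pow (hab x hx.1 y hy.1), hx.2, hy.2, one_mul]⟩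
    inv_mem' := fun {x} hx => ⟨N.inv_mem hx.1, by rw [inv_pow, hx.2, inv_one]⟩ }
  haveI : M.Normal := ⟨fun n hn g => ⟨hNn.conj_mem n hn.1 g, by rw [conj_pow, hn.2]; group⟩⟩
  have hM : M ≠ ⊥ := by
    obtain ⟨z, hz⟩ := exists_prime_orderOf_dvd_card' (G := N) p (by rw [hcard]; exact hpq)
    intro h
    have hzM : (z : L) ∈ M := ⟨z.2, by rw [← hz, ← SubgroupClass.coe_pow, pow_orderOf_eq_one]; rfl⟩
    rw [h, Subgroup.mem_bot] at hzM
    rw [show z = 1 from Subtype.ext hzM, orderOf_one] at hz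
    exact hp.one_lt.ne hz
  refine ⟨N, hNn, hab, hcard, htr, hfix, fun n hn => ?_⟩
  obtain ⟨m, hm, hm'⟩ := normal_transitive hq ha hpq L hu hmix M hM (((n : L) : Perm (ZMod q)) 0)
  have : (⟨n, hn⟩ : N) = ⟨m, hm.1⟩ := hbij.1 hm'.symm
  rw [show n = m from congrArg Subtype.val this]
  exact hm.2

theorem not_solvable_prime (hq : q = p ^ a) (ha : a = 1) (hpq : p ∣ q)
    (L : Subgroup (Perm (ZMod q))) (hu : Equiv.addRight (1 : ZMod q) ∈ L) (c : Perm (ZMod q))
    (hc : c ∈ L) (hc1 : c ≠ 1) (x y : ZMod q) (hxy : x ≠ y) (hx : c x = x) (hy : c y = y) :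
    ¬ Group.IsSolvable L := by
  intro hs
  obtain ⟨N, hNn, hab, hcard, htr, hfix, hexp⟩ :=
    exists_regular hq ha.ge hpq L hu (fun h => absurd ha (by omega))
  obtain ⟨m1, hm1, h1⟩ := htr x
  obtain ⟨m2, hm2, h2⟩ := htr y
  set n := m2 * m1⁻¹ with hn
  have hnN : n ∈ N := N.mul_mem hm2 (N.inv_mem hm1)
  have hnx : ((n : L) : Perm (ZMod q)) x = y := by
    rw [← h1, hn, ← h2]
    simp [Perm.mul_apply]
  have hcomm : (⟨c, hc⟩ : L) * n = n * ⟨c, hc⟩ := by
    have hcN : (⟨c, hc⟩ : L) * n * (⟨c, hc⟩ : L)⁻¹ ∈ N := hNn.conj_mem n hnN _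
    have hsame := hfix (n⁻¹ * ((⟨c, hc⟩ : L) * n * (⟨c, hc⟩ : L)⁻¹)) (N.mul_mem (N.inv_mem hnN) hcN) x
      (by
        have hxc : c.symm x = x := by rw [Equiv.symm_apply_eq, hx]
        simp [Perm.mul_apply, Perm.inv_def, hxc, hnx, hy, Equiv.symm_apply_eq])
    rw [inv_mul_eq_one] at hsame
    exact mul_inv_eq_iff_eq_mul.1 hsame.symm
  have hn1 : n ≠ 1 := fun h => hxy (by rw [← hnx, h]; simp)
  apply hc1
  refine Equiv.ext fun z => ?_
  obtain ⟨m3, hm3, h3⟩ := htr z
  haveI : Fact (Nat.card N).Prime := ⟨by rw [hcard, hq, ha, pow_one]; exact Fact.out⟩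
  have hgen := mem_zpowers_of_prime_card (G := N) (p := Nat.card N) rfl (g := ⟨n, hnN⟩)
    (fun h => hn1 (congrArg Subtype.val h)) (g' := ⟨m3 * m1⁻¹, N.mul_mem hm3 (N.inv_mem hm1)⟩)
  obtain ⟨k, hk⟩ := Subgroup.mem_zpowers_iff.1 hgen
  have hk' : n ^ k = m3 * m1⁻¹ := by simpa using congrArg Subtype.val hk
  have hzx : ((n ^ k : L) : Perm (ZMod q)) x = z := by
    rw [hk', ← h1, ← h3]
    simp [Perm.mul_apply]
  have hck : (⟨c, hc⟩ : L) * n ^ k = n ^ k * ⟨c, hc⟩ := (Commute.zpow_right hcomm k).eq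
  have h := congrArg (fun l : L => (l : Perm (ZMod q)) x) hck
  simp only [Subgroup.coe_mul, Perm.mul_apply, hx, hzx] at h
  simpa using h

theorem not_solvable_pow (hp3 : 3 ≤ p) (hq : q = p ^ a) (ha : 2 ≤ a) (hpq : p ∣ q)
    (L : Subgroup (Perm (ZMod q))) (hu : Equiv.addRight (1 : ZMod q) ∈ L)
    (hmix : Mixes q p a L hpq) : ¬ Group.IsSolvable L := by
  intro hs
  have hp : p.Prime := Fact.out
  obtain ⟨N, hNn, hab, hcard, htr, hfix, hexp⟩ :=
    exists_regular hq (by omega) hpq L hu (fun _ => hmix)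
  haveI := hNn
  letI : CommGroup N :=
    { (inferInstance : Group N) with mul_comm := fun x y => Subtype.ext (hab x x.2 y y.2) }
  set u : L := ⟨_, hu⟩ with hu'
  obtain ⟨t, ht, ht0⟩ := htr 1
  set g : L := t⁻¹ * u with hg
  have hg0 : (g : Perm (ZMod q)) 0 = 0 := by
    rw [hg, Subgroup.coe_mul, Perm.mul_apply, hu', Equiv.coe_addRight]
    simp [Perm.inv_def, Equiv.symm_apply_eq, ht0]
  let φ : MulAut N := MulAut.conjNormal g
  let f : AddMonoid.End (Additive N) := MonoidHom.toAdditive φ.toMonoidHom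
  let t0 : Additive N := Additive.ofMul ⟨t, ht⟩
  have hgk0 : ∀ k : ℕ, ((g ^ k : L) : Perm (ZMod q)) 0 = 0 := by
    intro k
    induction k with
    | zero => simp
    | succ k ih => rw [pow_succ, Subgroup.coe_mul, Perm.mul_apply, hg0, ih]
  have hf : ∀ (k : ℕ) (v : Additive N), ((Additive.toMul ((f ^ k) v) : N) : L) =
      g ^ k * ((Additive.toMul v : N) : L) * (g ^ k)⁻¹ := by
    intro k
    induction k with
    | zero => intro v; simp
    | succ k ih =>
      intro v
      rw [pow_succ', AddMonoid.End.coe_mul, Function.comp_apply]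
      show ((φ (Additive.toMul ((f ^ k) v)) : N) : L) = _
      rw [MulAut.conjNormal_apply, ih v, pow_succ']
      group
  have hu_pow : ∀ k : ℕ, u ^ k =
      ((Additive.toMul (∑ i ∈ Finset.range k, (f ^ i) t0) : N) : L) * g ^ k := by
    intro k
    induction k with
    | zero => simp
    | succ k ih =>
      have hug : u = t * g := by rw [hg]; group
      rw [pow_succ, ih, Finset.sum_range_succ, toMul_add, Subgroup.coe_mul, hf k t0, hug]
      simp only [t0, toMul_ofMul]
      group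
  have hval : ∀ k : ℕ,
      (((Additive.toMul (∑ i ∈ Finset.range k, (f ^ i) t0) : N) : L) : Perm (ZMod q)) 0 = k := by
    intro k
    have := congrArg (fun l : L => (l : Perm (ZMod q)) 0) (hu_pow k)
    simp only [Subgroup.coe_mul, Perm.mul_apply, hgk0, hu', SubgroupClass.coe_pow, addRight_pow,
      zero_add] at this
    rw [show (((g : Perm (ZMod q))) ^ k : Perm (ZMod q)) 0 = 0 by
      rw [← SubgroupClass.coe_pow]; exact hgk0 k] at this
    exact this.symm
  have hgq : g ^ q = 1 := by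
    have hs0 : (Additive.toMul (∑ i ∈ Finset.range q, (f ^ i) t0) : N) = 1 := by
      refine Subtype.ext (hfix _ (SetLike.coe_mem _) 0 ?_)
      rw [hval, ZMod.natCast_self]
    have := hu_pow q
    rw [hs0, Subgroup.coe_one, one_mul] at this
    rw [← this]
    exact Subtype.ext (Equiv.ext fun x => by simp [hu', addRight_pow])
  have hfq : f ^ (p ^ a) = 1 := by
    refine AddMonoidHom.ext fun v => ?_
    apply Additive.toMul.injective
    apply Subtype.ext
    refine (hf (p ^ a) v).trans ?_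
    rw [← hq, hgq]
    simp only [one_mul, inv_one, mul_one]
    rfl
  have hsum := sum_pow_eq_zero hp3 ha (V := Additive N) (hcard.trans hq) (fun v => by
    apply Additive.toMul.injective
    rw [toMul_nsmul, toMul_zero]
    exact Subtype.ext (hexp _ (Additive.toMul v).2)) f hfq
  have h0 := hval (p ^ (a - 1))
  have h1 : ∑ i ∈ Finset.range (p ^ (a - 1)), (f ^ i) t0 = 0 := by
    have := DFunLike.congr_fun hsum t0
    exact (AddMonoidHom.finsetSum_apply _ _ _).symm.trans this
  rw [h1, toMul_zero, Subgroup.coe_one, Subgroup.coe_one, Perm.one_apply, eq_comm,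
    ZMod.natCast_eq_zero_iff, hq, Nat.pow_dvd_pow_iff_le_right hp.one_lt] at h0
  omega

end

end CfsgLib.AltPPair
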