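import Cfsg.Agent.Lib.AltPPair.Small
import Mathlib.Data.ZMod.QuotientGroup
import Mathlib.Data.Finset.Max
import Mathlib.Data.Fintype.Order
import Mathlib.Data.Fintype.Lattice

/-!
Reduction of an arbitrary pair of `p`-elements to a piece.
-/

set_option autoImplicit false

open Equiv

namespace CfsgLib.AltPPair

variable {α : Type*} [Fintype α] [DecidableEq α]

theorem glue {β : Type*} [Fintype β] [DecidableEq β] {p : ℕ} {u w : Perm α} {A B : Finset α}
    (hA : ∀ x, u x ∈ A ↔ x ∈ A) (hB : ∀ x, w x ∈ B ↔ x ∈ B)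
    (e : {x // x ∈ A} ≃ β) (e' : {x // x ∈ B} ≃ β)
    (h : GoodPiece p (e.permCongr (u.subtypePerm hA)) (e'.permCongr (w.subtypePerm hB))) :
    GoodPiece p u w := by
  classical
  intro s
  set g0 : Perm α := (e'.trans e.symm).extendSubtype with hg0
  obtain ⟨σ, hσ, hP, hS⟩ := h (s * Perm.sign g0)
  set g : Perm α := Perm.ofSubtype (e.symm.permCongr σ) * g0 with hg
  refine ⟨g, ?_, ?_⟩
  · rw [hg, Perm.sign_mul, Perm.sign_ofSubtype, Perm.sign_permCongr, hσ, mul_assoc,
      Int.units_mul_self, mul_one]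
  have happ : ∀ x : {x // x ∈ B}, g x = e.symm (σ (e' x)) := by
    intro x
    rw [hg, Perm.mul_apply, hg0, Equiv.extendSubtype_apply_of_mem _ (x : α) x.2]
    rw [Perm.ofSubtype_apply_of_mem _ (Subtype.coe_prop _)]
    simp [Equiv.permCongr_apply]
  set w' := g * w * g⁻¹ with hw'
  have hval : ∀ b : β, w' (e.symm (σ b)) = e.symm (σ (e'.permCongr (w.subtypePerm hB) b)) := by
    intro b
    have h1 : g (e'.symm b) = e.symm (σ b) := by
      rw [happ, Equiv.apply_symm_apply]
    rw [← h1, hw', conj_app]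
    exact happ ((w.subtypePerm hB) (e'.symm b))
  have hA' : ∀ x, w' x ∈ A ↔ x ∈ A := by
    have hmap : ∀ y ∈ A, w' y ∈ A := by
      intro y hy
      have := hval (σ⁻¹ (e ⟨y, hy⟩))
      rw [Perm.coe_inv, Equiv.apply_symm_apply, Equiv.symm_apply_apply] at this
      rw [this]
      exact Subtype.coe_prop _
    intro x
    refine ⟨fun hx => ?_, hmap x⟩
    have hbij : Function.Surjective fun y : {y // y ∈ A} => (⟨w' y, hmap _ y.2⟩ : {y // y ∈ A}) :=
      Finite.injective_iff_surjective.1 fun y z hyz =>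
        Subtype.ext (w'.injective (congrArg Subtype.val hyz))
    obtain ⟨y, hy⟩ := hbij ⟨w' x, hx⟩
    rw [← w'.injective (congrArg Subtype.val hy)]
    exact y.2
  let S : Subgroup (Perm α) :=
  { carrier := {π | ∀ x, π x ∈ A ↔ x ∈ A}
    one_mem' := fun x => Iff.rfl
    mul_mem' := fun {π τ} hπ hτ x => (hπ (τ x)).trans (hτ x)
    inv_mem' := fun {π} hπ x => by simpa using (hπ (π⁻¹ x)).symm }
  let Φ : S →* Perm β :=
  { toFun := fun π => e.permCongr ((π : Perm α).subtypePerm π.2)
    map_one' := by ext b; simp [Equiv.permCongr_apply]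
    map_mul' := fun π τ => by ext b; simp [Equiv.permCongr_apply, Perm.mul_apply] }
  let u' : S := ⟨u, hA⟩
  let v' : S := ⟨w', hA'⟩
  have hΦu : Φ u' = e.permCongr (u.subtypePerm hA) := rfl
  have hΦv : Φ v' = σ * e'.permCongr (w.subtypePerm hB) * σ⁻¹ := by
    refine Equiv.ext fun b => ?_
    obtain ⟨b, rfl⟩ := σ.surjective b
    rw [conj_app]
    show e ⟨w' (e.symm (σ b) : α), _⟩ = _
    rw [← Equiv.apply_symm_apply e (σ (e'.permCongr (w.subtypePerm hB) b))]
    congr 1
    exact Subtype.ext (hval b)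
  refine ⟨fun k hk => hP k ?_, fun hs => hS ?_⟩
  · have : (u' * v') ^ (p ^ k) = 1 := Subtype.ext (by rw [SubgroupClass.coe_pow]; exact hk)
    rw [← hΦu, ← hΦv, ← map_mul, ← map_pow, this, map_one]
  · have hK : Group.IsSolvable ↥(Subgroup.closure ({u', v'} : Set S)) := by
      have e1 : (Subgroup.closure ({u', v'} : Set S)).map S.subtype =
          Subgroup.closure ({u, w'} : Set (Perm α)) := by
        rw [MonoidHom.map_closure, Set.image_pair]; rfl
      have e2 := ((Subgroup.closure ({u', v'} : Set S)).equivMapOfInjective _ S.subtype_injective).trans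
        (MulEquiv.subgroupCongr e1)
      exact Group.isSolvable_of_surjective (f := e2.symm.toMonoidHom) e2.symm.surjective
    have e3 : (Subgroup.closure ({u', v'} : Set S)).map Φ =
        Subgroup.closure ({e.permCongr (u.subtypePerm hA),
          σ * e'.permCongr (w.subtypePerm hB) * σ⁻¹} : Set (Perm β)) := by
      rw [MonoidHom.map_closure, Set.image_pair, hΦu, hΦv]
    exact Group.isSolvable_of_surjective
      (f := ((MulEquiv.subgroupCongr e3).toMonoidHom).comp (Φ.subgroupMap _))
      ((MulEquiv.subgroupCongr e3).surjective.comp (Φ.subgroupMap_surjective _))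

/-- The points of the orbit of `x`. -/
noncomputable def orbF (u : Perm α) (x : α) : Finset α :=
  open Classical in Finset.univ.filter fun y => ∃ k : ℤ, (u ^ k) x = y

omit [DecidableEq α] in
theorem mem_orbF {u : Perm α} {x y : α} : y ∈ orbF u x ↔ ∃ k : ℤ, (u ^ k) x = y := by
  simp [orbF]

omit [DecidableEq α] in
theorem orbF_inv (u : Perm α) (x : α) : ∀ y, u y ∈ orbF u x ↔ y ∈ orbF u x := by
  intro y
  simp only [mem_orbF]
  constructor
  · rintro ⟨k, hk⟩
    exact ⟨-1 + k, by rw [zpow_add, Perm.mul_apply, hk, zpow_neg_one]; simp⟩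
  · rintro ⟨k, hk⟩
    exact ⟨1 + k, by rw [zpow_add, Perm.mul_apply, hk, zpow_one]⟩

omit [DecidableEq α] in
theorem self_mem_orbF (u : Perm α) (x : α) : x ∈ orbF u x := mem_orbF.2 ⟨0, rfl⟩

omit [DecidableEq α] in
theorem exists_orbit_equiv (u : Perm α) (x : α) (q : ℕ) [NeZero q]
    (hq : Function.minimalPeriod u x = q) :
    ∃ e : {y // y ∈ orbF u x} ≃ ZMod q,
      e.permCongr (u.subtypePerm (orbF_inv u x)) = Equiv.addRight 1 := by
  subst hq
  have hmem : ∀ y : α, y ∈ orbF u x ↔ y ∈ MulAction.orbit (Subgroup.zpowers u) x := by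
    intro y
    rw [mem_orbF]
    constructor
    · rintro ⟨k, rfl⟩
      exact ⟨⟨u ^ k, Subgroup.zpow_mem_zpowers u k⟩, rfl⟩
    · rintro ⟨⟨g, hg⟩, rfl⟩
      obtain ⟨k, rfl⟩ := Subgroup.mem_zpowers_iff.1 hg
      exact ⟨k, rfl⟩
  let e0 := MulAction.orbitZPowersEquiv u x
  refine ⟨(Equiv.subtypeEquivRight hmem).trans e0, Equiv.ext fun k => ?_⟩
  rw [Equiv.permCongr_apply]
  apply ((Equiv.subtypeEquivRight hmem).trans e0).symm.injective
  rw [Equiv.symm_apply_apply]
  apply Subtype.ext
  obtain ⟨z, rfl⟩ := ZMod.intCast_surjective k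
  rw [Equiv.coe_addRight]
  show u (((MulAction.orbitZPowersEquiv u x).symm (z : ZMod _)) : α) =
    ((MulAction.orbitZPowersEquiv u x).symm ((z : ZMod (Function.minimalPeriod (u • ·) x)) + 1) : α)
  rw [← Int.cast_one, ← Int.cast_add, MulAction.orbitZPowersEquiv_symm_apply',
    MulAction.orbitZPowersEquiv_symm_apply']
  show u ((((⟨u, Subgroup.mem_zpowers u⟩ : Subgroup.zpowers u) ^ z : Subgroup.zpowers u) : Perm α) x)
    = (((⟨u, Subgroup.mem_zpowers u⟩ : Subgroup.zpowers u) ^ (z + 1) : Subgroup.zpowers u) : Perm α) x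
  rw [SubgroupClass.coe_zpow, SubgroupClass.coe_zpow, add_comm, zpow_one_add, Perm.mul_apply]

omit [DecidableEq α] in
theorem card_orbF (u : Perm α) (x : α) (q : ℕ) [NeZero q] (hq : Function.minimalPeriod u x = q) :
    (orbF u x).card = q := by
  obtain ⟨e, -⟩ := exists_orbit_equiv u x q hq
  rw [← Fintype.card_coe, Fintype.card_congr e, ZMod.card]

variable {p : ℕ} [Fact p.Prime]

omit [DecidableEq α] in
theorem period_pow (w : Perm α) (j : ℕ) (hw : w ^ (p ^ j) = 1) (x : α) :
    ∃ i, Function.minimalPeriod w x = p ^ i := by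
  obtain ⟨i, -, hi⟩ := (Nat.dvd_prime_pow (Fact.out : p.Prime)).1
    (Function.IsPeriodicPt.minimalPeriod_dvd (f := w) (n := p ^ j) (x := x) (by
      show (w : α → α)^[p ^ j] x = x
      rw [← Perm.coe_pow, hw]; rfl))
  exact ⟨i, hi⟩

theorem exists_invariant_subset (w : Perm α) (j : ℕ) (hw : w ^ (p ^ j) = 1) :
    ∀ k c : ℕ, ∀ U : Finset α, (∀ x, w x ∈ U ↔ x ∈ U) →
      (∀ x ∈ U, Function.minimalPeriod w x ∣ p ^ k) → c * p ^ k ≤ U.card →
      ∃ T ⊆ U, (∀ x, w x ∈ T ↔ x ∈ T) ∧ T.card = c * p ^ k := by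
  have hp : p.Prime := Fact.out
  intro k
  induction k with
  | zero =>
    intro c U hU hper hc
    obtain ⟨T, hTU, hT⟩ := Finset.exists_subset_card_eq hc
    have hfix : ∀ x ∈ U, w x = x := fun x hx =>
      Function.minimalPeriod_eq_one_iff_isFixedPt.1 (Nat.dvd_one.1 (by simpa using hper x hx))
    refine ⟨T, hTU, fun x => ⟨fun hx => ?_, fun hx => ?_⟩, hT⟩
    · have hxU : x ∈ U := (hU x).1 (hTU hx)
      rwa [hfix x hxU] at hx
    · rwa [hfix x (hTU hx)]
  | succ k ih =>
    intro c
    induction c with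
    | zero => intro U hU _ _; exact ⟨∅, Finset.empty_subset _, fun x => by simp, by simp⟩
    | succ c ihc =>
      intro U hU hper hc
      by_cases hex : ∃ x ∈ U, Function.minimalPeriod w x = p ^ (k + 1)
      · obtain ⟨x, hxU, hx⟩ := hex
        haveI : NeZero (p ^ (k + 1)) := ⟨pow_ne_zero _ hp.pos.ne'⟩
        have hO := card_orbF w x _ hx
        have hOU : orbF w x ⊆ U := by
          intro y hy
          obtain ⟨z, rfl⟩ := mem_orbF.1 hy
          induction z using Int.induction_on with
          | zero => exact hxU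
          | succ i hi =>
            rw [show ((i : ℤ) + 1) = 1 + i by ring, zpow_add, Perm.mul_apply, zpow_one]
            exact (hU _).2 (hi (mem_orbF.2 ⟨_, rfl⟩))
          | pred i hi =>
            refine (hU _).1 ?_
            rw [← Perm.mul_apply, ← zpow_one_add, show (1 : ℤ) + (-(i : ℤ) - 1) = -(i : ℤ) by ring]
            exact hi (mem_orbF.2 ⟨_, rfl⟩)
        obtain ⟨T, hTU, hT, hTc⟩ := ihc (U \ orbF w x)
          (fun y => by simp [Finset.mem_sdiff, hU y, orbF_inv w x y])
          (fun y hy => hper y (Finset.mem_sdiff.1 hy).1)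
          (by
            rw [Finset.card_sdiff_of_subset hOU, hO]
            rw [Nat.succ_mul] at hc
            omega)
        refine ⟨orbF w x ∪ T, Finset.union_subset hOU (hTU.trans Finset.sdiff_subset),
          fun y => by simp [hT y, orbF_inv w x y], ?_⟩
        rw [Finset.card_union_of_disjoint, hO, hTc, Nat.succ_mul, add_comm]
        exact Finset.disjoint_left.2 fun y hy hy' => (Finset.mem_sdiff.1 (hTU hy')).2 hy
      · push Not at hex
        obtain ⟨T, hTU, hT, hTc⟩ := ih ((c + 1) * p) U hU (fun x hx => by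
          obtain ⟨i, hi, hi'⟩ := (Nat.dvd_prime_pow hp).1 (hper x hx)
          rw [hi']
          refine pow_dvd_pow p (Nat.lt_succ_iff.1 (lt_of_le_of_ne hi ?_))
          intro he
          exact hex x hx (hi'.trans (by rw [he]))) (by rwa [mul_assoc, ← pow_succ'])
        exact ⟨T, hTU, hT, by rw [hTc, mul_assoc, ← pow_succ']⟩

theorem subtype_pow_one {k : ℕ} (w : Perm α) (hw : ∀ x, (w ^ k) x = x) (B : Finset α)
    (hB : ∀ x, w x ∈ B ↔ x ∈ B) {β : Type*} (e : {x // x ∈ B} ≃ β) :
    (e.permCongr (w.subtypePerm hB)) ^ k = 1 := by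
  rw [← Equiv.permCongrHom_coe e, ← map_pow, Perm.subtypePerm_pow]
  refine Equiv.ext fun b => ?_
  simp [hw]

theorem subtype_ne_one (w : Perm α) (B : Finset α) (hB : ∀ x, w x ∈ B ↔ x ∈ B) {β : Type*}
    (e : {x // x ∈ B} ≃ β) (x : α) (hx : x ∈ B) (hm : w x ≠ x) :
    e.permCongr (w.subtypePerm hB) ≠ 1 := by
  intro h
  have := Equiv.congr_fun h (e ⟨x, hx⟩)
  simp [Equiv.permCongr_apply] at this
  exact hm this

omit [DecidableEq α] in
theorem period_moved (w : Perm α) (x : α) (h : 1 < Function.minimalPeriod w x) :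
    w x ≠ x ∧ (3 ≤ Function.minimalPeriod w x → w (w x) ≠ x) ∧
      (4 ≤ Function.minimalPeriod w x → w (w (w x)) ≠ x) := by
  refine ⟨fun e => ?_, fun h3 e => ?_, fun h4 e => ?_⟩
  · have := Function.IsPeriodicPt.minimalPeriod_le (f := w) (n := 1) (x := x) one_pos e
    omega
  · have := Function.IsPeriodicPt.minimalPeriod_le (f := w) (n := 2) (x := x) two_pos e
    omega
  · have := Function.IsPeriodicPt.minimalPeriod_le (f := w) (n := 3) (x := x) (by norm_num) e
    omega

theorem good_small (hp : p = 3) (k : ℕ) (hk : k = 5 ∨ k = 6) (u w : Perm α)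
    (hu : ∀ x, (u ^ 3) x = x) (hw : ∀ x, (w ^ 3) x = x)
    (A B : Finset α) (hA : ∀ x, u x ∈ A ↔ x ∈ A) (hB : ∀ x, w x ∈ B ↔ x ∈ B)
    (hAc : A.card = k) (hBc : B.card = k) (x : α) (hx : x ∈ A) (hxm : u x ≠ x)
    (y : α) (hy : y ∈ B) (hym : w y ≠ y) : GoodPiece p u w := by
  subst hp
  rcases hk with rfl | rfl
  · refine glue hA hB ((Fintype.equivFinOfCardEq (by rw [Fintype.card_coe, hAc])))
      ((Fintype.equivFinOfCardEq (by rw [Fintype.card_coe, hBc]))) ?_
    exact goodPiece_five _ _ (subtype_pow_one u hu A hA _) (subtype_ne_one u A hA _ x hx hxm)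
      (subtype_pow_one w hw B hB _) (subtype_ne_one w B hB _ y hy hym)
  · refine glue hA hB ((Fintype.equivFinOfCardEq (by rw [Fintype.card_coe, hAc])))
      ((Fintype.equivFinOfCardEq (by rw [Fintype.card_coe, hBc]))) ?_
    exact goodPiece_six _ _ (subtype_pow_one u hu A hA _) (subtype_ne_one u A hA _ x hx hxm)
      (subtype_pow_one w hw B hB _) (subtype_ne_one w B hB _ y hy hym)

/-- The general case when `u` has the longest cycle. -/
theorem goodPiece_main (hp3 : 3 ≤ p) (hn : 5 ≤ Fintype.card α) (u w : Perm α) (i j : ℕ)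
    (hu : u ^ (p ^ i) = 1) (hw : w ^ (p ^ j) = 1) (hw1 : w ≠ 1) (x : α)
    (hxu : ∀ z, Function.minimalPeriod u z ≤ Function.minimalPeriod u x)
    (hxw : ∀ z, Function.minimalPeriod w z ≤ Function.minimalPeriod u x) : GoodPiece p u w := by
  have hp : p.Prime := Fact.out
  obtain ⟨a, ha⟩ := period_pow u i hu x
  obtain ⟨y, hy⟩ : ∃ y, ∀ z, Function.minimalPeriod w z ≤ Function.minimalPeriod w y := by
    haveI : Nonempty α := ⟨x⟩
    exact Finite.exists_max _
  obtain ⟨b, hb⟩ := period_pow w j hw y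
  have hb1 : 1 ≤ b := by
    by_contra h
    apply hw1
    refine Equiv.ext fun z => ?_
    have hz := hy z
    obtain ⟨c, hc⟩ := period_pow w j hw z
    rw [hb, show b = 0 by omega, pow_zero] at hz
    have h1 : 0 < Function.minimalPeriod w z := hc ▸ Nat.pow_pos hp.pos
    exact Function.minimalPeriod_eq_one_iff_isFixedPt.1 (by omega)
  have hba : b ≤ a := (Nat.pow_le_pow_iff_right hp.one_lt).1 (hb ▸ ha ▸ hxw y)
  have ha1 : 1 ≤ a := hb1.trans hba
  haveI : NeZero (p ^ a) := ⟨pow_ne_zero _ hp.pos.ne'⟩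
  haveI : NeZero (p ^ b) := ⟨pow_ne_zero _ hp.pos.ne'⟩
  have hpb : p ≤ p ^ b := Nat.le_self_pow (by omega) p
  have hpa : p ≤ p ^ a := Nat.le_self_pow (by omega) p
  have hyb := period_moved w y (by omega)
  by_cases h5 : 5 ≤ p ^ a
  · obtain ⟨e, he⟩ := exists_orbit_equiv u x _ ha
    rcases eq_or_lt_of_le hba with rfl | hlt
    · -- two long cycles
      obtain ⟨e', he'⟩ := exists_orbit_equiv w y _ hb
      refine glue (orbF_inv u x) (orbF_inv w y) e (e'.trans (Equiv.neg _)) ?_
      rw [he]
      convert goodPiece_cycle hp3 rfl ha1 h5 using 1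
      refine Equiv.ext fun k => ?_
      have h2 := Equiv.congr_fun he' (-k)
      rw [Equiv.permCongr_apply] at h2 ⊢
      simp only [Equiv.symm_trans_apply, Equiv.trans_apply, Equiv.neg_symm, Equiv.neg_apply]
      rw [h2, Perm.coe_inv, Equiv.addRight_symm, Equiv.coe_addRight, Equiv.coe_addRight]
      ring
    · set O := orbF w y with hO
      have hOc : O.card = p ^ b := card_orbF w y _ hb
      have hqr : p ^ a = p ^ (a - b) * p ^ b := by rw [← pow_add, show a - b + b = a by omega]
      have hm2 : 2 ≤ p ^ (a - b) := hp.two_le.trans (Nat.le_self_pow (by omega) p)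
      have hxA := card_orbF u x _ ha
      have hncard : p ^ a ≤ Fintype.card α := hxA ▸ Finset.card_le_univ _
      obtain ⟨T, hTU, hT, hTc⟩ := exists_invariant_subset w j hw b (p ^ (a - b) - 1) Oᶜ
        (fun z => by simp only [Finset.mem_compl, hO, orbF_inv w y z])
        (fun z _ => by
          obtain ⟨c, hc⟩ := period_pow w j hw z
          rw [hc]
          exact pow_dvd_pow p ((Nat.pow_le_pow_iff_right hp.one_lt).1 (hc ▸ hb ▸ hy z)))
        (by rw [Finset.card_compl, hOc, Nat.sub_one_mul, ← hqr]; omega)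
      have hdisj : Disjoint O T := Finset.disjoint_left.2 fun z hz hz' =>
        Finset.mem_compl.1 (hTU hz') hz
      have hB : ∀ z, w z ∈ O ∪ T ↔ z ∈ O ∪ T := fun z => by simp [hO, hT z, orbF_inv w y z]
      have hBc : (O ∪ T).card = p ^ a := by
        rw [Finset.card_union_of_disjoint hdisj, hOc, hTc, Nat.sub_one_mul, ← hqr]
        have : p ^ b ≤ p ^ a := Nat.pow_le_pow_right hp.pos hba
        omega
      obtain ⟨z, hz⟩ : T.Nonempty := by
        rw [← Finset.card_pos, hTc]
        exact Nat.mul_pos (by omega) (Nat.pow_pos hp.pos)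
      let e' : {t // t ∈ O ∪ T} ≃ ZMod (p ^ a) :=
        Fintype.equivOfCardEq (by rw [Fintype.card_coe, hBc, ZMod.card])
      refine glue (orbF_inv u x) hB e e' ?_
      rw [he]
      have happ : ∀ t : {t // t ∈ O ∪ T}, e'.permCongr (w.subtypePerm hB) (e' t) =
          e' ⟨w t, (hB t).2 t.2⟩ := fun t => by simp [Equiv.permCongr_apply]
      have hyB : y ∈ O ∪ T := Finset.mem_union_left _ (self_mem_orbF w y)
      refine goodPiece_mixed hp3 rfl (by omega) _ (e' ⟨y, hyB⟩)
        (e' ⟨z, Finset.mem_union_right _ hz⟩) ?_ ?_ ?_ ?_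
      · rw [happ]
        exact fun h => hyb.1 (congrArg Subtype.val (e'.injective h))
      · rw [happ, happ]
        exact fun h => hyb.2.1 (by omega) (congrArg Subtype.val (e'.injective h))
      · intro k hk
        rw [← Equiv.permCongrHom_coe e', ← map_zpow, Perm.subtypePerm_zpow,
          Equiv.permCongrHom_coe, Equiv.permCongr_apply, Equiv.symm_apply_apply] at hk
        have := congrArg Subtype.val (e'.injective hk)
        exact Finset.mem_compl.1 (hTU hz) (mem_orbF.2 ⟨k, this⟩)
      · intro h h3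
        rw [happ, happ, happ] at h
        apply h
        congr 1
        refine Subtype.ext ?_
        have hp' : p = 3 := by
          have h1 : p ∣ 3 := h3 ▸ dvd_pow_self p (show a - 1 ≠ 0 by omega)
          exact (Nat.prime_dvd_prime_iff_eq hp Nat.prime_three).1 h1
        have ha2 : a - 1 = 1 := by
          rw [hp'] at h3
          exact Nat.pow_right_injective (le_refl 2 |>.trans (by norm_num)) (h3.trans (pow_one 3).symm)
        have hb3 : Function.minimalPeriod w y = 3 := by
          rw [hb, hp', show b = 1 by omega, pow_one]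
        have := Function.isPeriodicPt_minimalPeriod (w : α → α) y
        rw [hb3] at this
        exact this
  · -- all cycles have length three
    have hp' : p = 3 := by
      rcases Nat.lt_or_ge 3 p with h | h
      · have : p ≠ 4 := fun h4 => by rw [h4] at hp; exact absurd hp (by decide)
        omega
      · omega
    have ha' : p ^ a = 3 := by
      have : a = 1 := by
        by_contra h
        have h9 : p ^ 2 ≤ p ^ a := Nat.pow_le_pow_right hp.pos (by omega)
        rw [hp'] at h9 h5
        omega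
      rw [this, pow_one, hp']
    have hper : ∀ (v : Perm α) (k : ℕ), v ^ (p ^ k) = 1 →
        (∀ z, Function.minimalPeriod v z ≤ p ^ a) →
        (∀ z, Function.minimalPeriod v z ∣ p ^ 1) ∧ ∀ z, (v ^ 3) z = z := by
      intro v k hv hle
      have h1 : ∀ z, Function.minimalPeriod v z ∣ p ^ 1 := fun z => by
        obtain ⟨c, hc⟩ := period_pow v k hv z
        rw [hc]
        refine pow_dvd_pow p ((Nat.pow_le_pow_iff_right hp.one_lt).1 ?_)
        have := hle z
        rw [hc, ha'] at this
        rw [pow_one]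
        omega
      refine ⟨h1, fun z => ?_⟩
      have := (Function.isPeriodicPt_minimalPeriod (v : α → α) z).trans_dvd (h1 z)
      rw [hp', pow_one] at this
      rw [Perm.coe_pow]
      exact this
    obtain ⟨hu3, hu3'⟩ := hper u i hu (ha ▸ hxu)
    obtain ⟨hw3, hw3'⟩ := hper w j hw (ha ▸ hxw)
    have hxm : u x ≠ x := (period_moved u x (by omega)).1
    rcases eq_or_lt_of_le hn with h | h
    · exact good_small hp' 5 (Or.inl rfl) u w hu3' hw3' Finset.univ Finset.univ (by simp) (by simp)
        (by rw [Finset.card_univ, ← h]) (by rw [Finset.card_univ, ← h]) x (Finset.mem_univ _) hxm y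
        (Finset.mem_univ _) hyb.1
    · have mk : ∀ (v : Perm α) (k : ℕ), v ^ (p ^ k) = 1 → (∀ z, Function.minimalPeriod v z ∣ p ^ 1) →
          ∀ z, Function.minimalPeriod v z = 3 →
          ∃ A : Finset α, (∀ t, v t ∈ A ↔ t ∈ A) ∧ A.card = 6 ∧ z ∈ A := by
        intro v k hv hv3 z hz
        have hOc : (orbF v z).card = 3 := card_orbF v z 3 hz
        obtain ⟨T, hTU, hT, hTc⟩ := exists_invariant_subset v k hv 1 1 (orbF v z)ᶜ
          (fun t => by simp only [Finset.mem_compl, orbF_inv v z t]) (fun t _ => hv3 t)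
          (by rw [Finset.card_compl, hOc, one_mul, pow_one, hp']; omega)
        refine ⟨orbF v z ∪ T, fun t => by simp [hT t, orbF_inv v z t], ?_,
          Finset.mem_union_left _ (self_mem_orbF v z)⟩
        rw [Finset.card_union_of_disjoint (Finset.disjoint_left.2 fun t ht ht' =>
          Finset.mem_compl.1 (hTU ht') ht), hOc, hTc, one_mul, pow_one, hp']
      have hb3 : Function.minimalPeriod w y = 3 := by
        have := hxw y
        omega
      obtain ⟨A, hA, hAc, hxA⟩ := mk u i hu hu3 x (ha.trans ha')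
      obtain ⟨B, hB, hBc, hyB⟩ := mk w j hw hw3 y hb3
      exact good_small hp' 6 (Or.inr rfl) u w hu3' hw3' A B hA hB hAc hBc x hxA hxm y hyB hyb.1

theorem exists_conj_nonsolvable (hp3 : 3 ≤ p) (hn : 5 ≤ Fintype.card α) (u w : Perm α) (i j : ℕ)
    (hu : u ^ (p ^ i) = 1) (hw : w ^ (p ^ j) = 1) (hu1 : u ≠ 1) (hw1 : w ≠ 1) :
    GoodPiece p u w := by
  haveI : Nonempty α := by rw [← Fintype.card_pos_iff]; omega
  obtain ⟨x, hx⟩ := Finite.exists_max fun z => Function.minimalPeriod u z
  obtain ⟨y, hy⟩ := Finite.exists_max fun z => Function.minimalPeriod w z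
  rcases le_total (Function.minimalPeriod w y) (Function.minimalPeriod u x) with h | h
  · exact goodPiece_main hp3 hn u w i j hu hw hw1 x hx fun z => (hy z).trans h
  · have H := goodPiece_main hp3 hn w u j i hw hu hu1 y hy fun z => (hx z).trans h
    intro s
    obtain ⟨σ, hσ, hP, hS⟩ := H s
    refine ⟨σ⁻¹, by rw [Perm.sign_inv, hσ], ?_, ?_⟩
    · intro k hk
      apply hP k
      rw [show w * (σ * u * σ⁻¹) = (w * σ) * (u * (σ⁻¹ * w * σ⁻¹⁻¹)) * (w * σ)⁻¹ by group,
        conj_pow, hk]
      group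
    · intro hs
      apply hS
      have e : Subgroup.closure ({w, σ * u * σ⁻¹} : Set (Perm α)) =
          (Subgroup.closure ({u, σ⁻¹ * w * σ⁻¹⁻¹} : Set (Perm α))).map
            (MulAut.conj σ).toMonoidHom := by
        rw [MonoidHom.map_closure, Set.image_pair, Set.pair_comm]
        congr 3
        show w = σ * (σ⁻¹ * w * σ⁻¹⁻¹) * σ⁻¹
        group
      have e' := (MulEquiv.subgroupCongr e).trans
        ((Subgroup.closure ({u, σ⁻¹ * w * σ⁻¹⁻¹} : Set (Perm α))).equivMapOfInjective _
          (MulAut.conj σ).injective).symm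
      exact Group.isSolvable_of_surjective (f := e'.symm.toMonoidHom) e'.symm.surjective

end CfsgLib.AltPPair
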