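import Cfsg.Agent.Lib.AltPPair.Cyclic
import Mathlib.Data.Fin.VecNotation
import Mathlib.Tactic.FinCases

/-!
The two kinds of pieces: a pair of full cycles, and a full cycle with a shorter cycle pattern.
-/

set_option autoImplicit false

open Equiv

namespace CfsgLib.AltPPair

/-- Conjugates of either parity of `w` make with `u` a product of order not a power of `p`
and a non-solvable group. -/
def GoodPiece (p : ℕ) {α : Type*} [Fintype α] [DecidableEq α] (u w : Perm α) : Prop :=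
  ∀ s : ℤˣ, ∃ σ : Perm α, Perm.sign σ = s ∧ (∀ k, (u * (σ * w * σ⁻¹)) ^ (p ^ k) ≠ 1) ∧
    ¬ Group.IsSolvable ↥(Subgroup.closure ({u, σ * w * σ⁻¹} : Set (Perm α)))

theorem exists_perm_map {α : Type*} [Fintype α] [DecidableEq α] {m : ℕ} (f g : Fin m → α)
    (hf : Function.Injective f) (hg : Function.Injective g) (hm : m + 2 ≤ Fintype.card α) (s : ℤˣ) :
    ∃ σ : Perm α, Perm.sign σ = s ∧ ∀ i, σ (f i) = g i := by
  classical
  let e : {x // x ∈ Set.range f} ≃ {x // x ∈ Set.range g} :=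
    (Equiv.ofInjective f hf).symm.trans (Equiv.ofInjective g hg)
  have he : ∀ i, e.extendSubtype (f i) = g i := by
    intro i
    rw [Equiv.extendSubtype_apply_of_mem e (f i) ⟨i, rfl⟩]
    simp [e]
  have hcard : (Finset.univ.image f).card = m := by
    rw [Finset.card_image_of_injective _ hf, Finset.card_univ, Fintype.card_fin]
  have h2 : 1 < (Finset.univ.image f)ᶜ.card := by
    rw [Finset.card_compl, hcard]; omega
  obtain ⟨b, hb, c, hc, hbc⟩ := Finset.one_lt_card.1 h2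
  rcases eq_or_ne (Perm.sign e.extendSubtype) s with h | h
  · exact ⟨_, h, he⟩
  · refine ⟨e.extendSubtype * Equiv.swap b c, ?_, fun i => ?_⟩
    · rw [Perm.sign_mul, Perm.sign_swap hbc, Int.units_ne_iff_eq_neg.1 h]
      simp
    · simp only [Finset.mem_compl, Finset.mem_image, Finset.mem_univ, true_and, not_exists] at hb hc
      rw [Perm.mul_apply, Equiv.swap_apply_of_ne_of_ne (hb i) (hc i)]
      exact he i

theorem conj_app {α : Type*} (σ w : Perm α) (x : α) : (σ * w * σ⁻¹) (σ x) = σ (w x) := by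
  simp [Perm.mul_apply]

section
variable {p a q : ℕ} [Fact p.Prime] [NeZero q]

theorem cast_ne (hpq : p ∣ q) {b c : ℕ} (h : ¬ b ≡ c [MOD p]) :
    ZMod.castHom hpq (ZMod p) (b : ZMod q) ≠ ZMod.castHom hpq (ZMod p) (c : ZMod q) := by
  rw [map_natCast, map_natCast, Ne, ZMod.natCast_eq_natCast_iff]
  exact h

theorem addRight_sub (b c : ℕ) (h : q ≤ b + 1 ∧ b + 1 = c + q ∨ b + 1 = c) :
    Equiv.addRight (1 : ZMod q) (b : ZMod q) = (c : ZMod q) := by
  rw [Equiv.coe_addRight]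
  show (b : ZMod q) + 1 = c
  rw [← Nat.cast_succ]
  rcases h with ⟨_, h⟩ | h
  · rw [Nat.succ_eq_add_one, h, Nat.cast_add, ZMod.natCast_self, add_zero]
  · rw [Nat.succ_eq_add_one, h]

theorem injective_cast {m : ℕ} (g : Fin m → ℕ) (hg : Function.Injective g) (hlt : ∀ i, g i < q) :
    Function.Injective fun i => (g i : ZMod q) := fun i j h =>
  hg ((natCast_inj_lt (hlt i) (hlt j)).1 h)

theorem finish_swap (hp3 : 3 ≤ p) (hq : q = p ^ a) (ha : 2 ≤ a) (hpq : p ∣ q)
    (W : Perm (ZMod q)) (X Y : ℕ) (hX : X < q) (hY : Y < q) (hXY : X ≠ Y)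
    (h1 : Equiv.addRight (1 : ZMod q) (W X) = Y) (h2 : Equiv.addRight (1 : ZMod q) (W Y) = X)
    (x : ZMod q) (b c : ℕ) (hb : W (x + (p ^ (a - 1) : ℕ)) = b) (hc : W x = c)
    (hbc : ¬ b ≡ c [MOD p]) :
    (∀ k, (Equiv.addRight (1 : ZMod q) * W) ^ (p ^ k) ≠ 1) ∧
    ¬ Group.IsSolvable ↥(Subgroup.closure ({Equiv.addRight (1 : ZMod q), W} : Set (Perm (ZMod q)))) := by
  have hp : p.Prime := Fact.out
  refine ⟨not_ppow (p := p) (m := 2) _ (X : ZMod q) ?_ ?_ ?_, ?_⟩
  · exact (Nat.coprime_primes Nat.prime_two hp).2 (by omega)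
  · simp only [pow_two, Perm.mul_apply, h1, h2]
  · rw [Perm.mul_apply, h1, Ne, natCast_inj_lt hY hX]
    exact fun h => hXY h.symm
  · refine not_solvable_pow hp3 hq ha hpq _ (Subgroup.subset_closure (Set.mem_insert _ _)) ?_
    refine ⟨W, Subgroup.subset_closure (Set.mem_insert_of_mem _ rfl), x, ?_⟩
    rw [hb, hc]
    exact cast_ne hpq hbc

theorem goodPiece_mixed (hp3 : 3 ≤ p) (hq : q = p ^ a) (ha : 2 ≤ a) (w : Perm (ZMod q))
    (x0 y0 : ZMod q) (hx1 : w x0 ≠ x0) (hx2 : w (w x0) ≠ x0)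
    (hy : ∀ k : ℤ, (w ^ k) x0 ≠ y0) (hQ3 : w (w (w x0)) ≠ x0 → p ^ (a - 1) ≠ 3) :
    GoodPiece p (Equiv.addRight (1 : ZMod q)) w := by
  classical
  have hp : p.Prime := Fact.out
  have hpq : p ∣ q := hq ▸ dvd_pow_self p (by omega)
  set Q := p ^ (a - 1) with hQdef
  have hqQ : q = p * Q := by rw [hq, hQdef, ← pow_succ', show a - 1 + 1 = a by omega]
  have hpQ : p ∣ Q := dvd_pow_self p (by omega)
  have hQp : p ≤ Q := Nat.le_of_dvd (Nat.pow_pos hp.pos) hpQ
  have h9 : 3 * Q ≤ q := hqQ ▸ Nat.mul_le_mul_right Q hp3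
  have hq9 : 9 ≤ q := by omega
  have hodd : Odd p := hp.odd_of_ne_two (by omega)
  have hx21 : w (w x0) ≠ w x0 := fun h => hx1 (w.injective h)
  have hy0 : x0 ≠ y0 := by simpa using hy 0
  have hy1 : w x0 ≠ y0 := by simpa using hy 1
  have hy2 : w (w x0) ≠ y0 := by
    have := hy (2 : ℕ); rwa [zpow_natCast, pow_two, Perm.mul_apply] at this
  have hy3 : w (w (w x0)) ≠ y0 := by
    have := hy (3 : ℕ); rwa [zpow_natCast, pow_succ, pow_two, Perm.mul_apply, Perm.mul_apply] at this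
  have hwy : ∀ k : ℤ, (w ^ k) x0 ≠ w y0 := by
    intro k h
    apply hy (k - 1)
    apply w.injective
    rw [← h, ← Perm.mul_apply, ← zpow_one_add]
    congr 2
    ring
  have hw0 : x0 ≠ w y0 := by simpa using hwy 0
  have hw1 : w x0 ≠ w y0 := by simpa using hwy 1
  have hw2 : w (w x0) ≠ w y0 := fun h => hy1 (w.injective h)
  have hw3 : w (w (w x0)) ≠ w y0 := fun h => hy2 (w.injective h)
  have hcard : Fintype.card (ZMod q) = q := ZMod.card q
  have nmod : ∀ b c : ℕ, b % p ≠ c % p → ¬ b ≡ c [MOD p] := fun b c h h' => h h'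
  have hqm1 : (q - 1) % p = p - 1 := by
    obtain ⟨l, hl⟩ : ∃ l, Q = l + 1 := ⟨Q - 1, by omega⟩
    rw [hqQ, hl, Nat.mul_add, Nat.mul_one, Nat.add_sub_assoc hp.one_le, Nat.mul_add_mod,
      Nat.mod_eq_of_lt (by omega)]
  intro s
  by_cases hfix : w y0 = y0
  · by_cases h3 : w (w (w x0)) = x0
    · obtain ⟨σ, hs, hσ⟩ := exists_perm_map ![x0, w x0, w (w x0), y0]
        (fun i => ((![0, q - 2, Q - 1, q - 1] i : ℕ) : ZMod q))
        (by intro i j h; fin_cases i <;> fin_cases j <;> first | rfl | (exfalso; simp at h; grind))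
        (injective_cast _ (by intro i j h; fin_cases i <;> fin_cases j <;> simp at h ⊢ <;> omega)
          (by intro i; fin_cases i <;> simp <;> omega))
        (by omega) s
      have s0 : σ x0 = ((0 : ℕ) : ZMod q) := hσ 0
      have s1 : σ (w x0) = ((q - 2 : ℕ) : ZMod q) := hσ 1
      have s2 : σ (w (w x0)) = ((Q - 1 : ℕ) : ZMod q) := hσ 2
      have s3 : σ y0 = ((q - 1 : ℕ) : ZMod q) := hσ 3
      refine ⟨σ, hs, ?_⟩
      refine finish_swap hp3 hq ha hpq _ 0 (q - 1) (by omega) (by omega) (by omega) ?_ ?_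
        ((q - 1 : ℕ) : ZMod q) 0 (q - 1) ?_ ?_ (nmod _ _ ?_)
      · rw [← s0, conj_app, s1]; exact addRight_sub _ _ (Or.inr (by omega))
      · rw [← s3, conj_app, hfix, s3]; exact addRight_sub _ _ (Or.inl (by omega))
      · rw [show ((q - 1 : ℕ) : ZMod q) + ((Q : ℕ) : ZMod q) = ((Q - 1 : ℕ) : ZMod q) by
          rw [← Nat.cast_add, show q - 1 + Q = q + (Q - 1) by omega, Nat.cast_add, ZMod.natCast_self,
            zero_add], ← s2, conj_app, h3, s0]
      · rw [← s3, conj_app, hfix]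
      · rw [hqm1, Nat.zero_mod]; omega
    · have h31 : w (w (w x0)) ≠ w x0 := fun h => hx2 (w.injective h)
      have h32 : w (w (w x0)) ≠ w (w x0) := fun h => hx21 (w.injective h)
      obtain ⟨σ, hs, hσ⟩ := exists_perm_map ![x0, w x0, w (w x0), w (w (w x0)), y0]
        (fun i => ((![0, q - 2, Q - 1, 1, q - 1] i : ℕ) : ZMod q))
        (by intro i j h; fin_cases i <;> fin_cases j <;> first | rfl | (exfalso; simp at h; grind))
        (injective_cast _ (by intro i j h; fin_cases i <;> fin_cases j <;> simp at h ⊢ <;> omega)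
          (by intro i; fin_cases i <;> simp <;> omega))
        (by omega) s
      have s0 : σ x0 = ((0 : ℕ) : ZMod q) := hσ 0
      have s1 : σ (w x0) = ((q - 2 : ℕ) : ZMod q) := hσ 1
      have s2 : σ (w (w x0)) = ((Q - 1 : ℕ) : ZMod q) := hσ 2
      have s3 : σ (w (w (w x0))) = ((1 : ℕ) : ZMod q) := hσ 3
      have s4 : σ y0 = ((q - 1 : ℕ) : ZMod q) := hσ 4
      refine ⟨σ, hs, ?_⟩
      refine finish_swap hp3 hq ha hpq _ 0 (q - 1) (by omega) (by omega) (by omega) ?_ ?_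
        ((q - 1 : ℕ) : ZMod q) 1 (q - 1) ?_ ?_ (nmod _ _ ?_)
      · rw [← s0, conj_app, s1]; exact addRight_sub _ _ (Or.inr (by omega))
      · rw [← s4, conj_app, hfix, s4]; exact addRight_sub _ _ (Or.inl (by omega))
      · rw [show ((q - 1 : ℕ) : ZMod q) + ((Q : ℕ) : ZMod q) = ((Q - 1 : ℕ) : ZMod q) by
          rw [← Nat.cast_add, show q - 1 + Q = q + (Q - 1) by omega, Nat.cast_add, ZMod.natCast_self,
            zero_add], ← s2, conj_app, s3]
      · rw [← s4, conj_app, hfix]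
      · rw [hqm1, Nat.mod_eq_of_lt hp.one_lt]; omega
  · by_cases h3 : w (w (w x0)) = x0
    · obtain ⟨σ, hs, hσ⟩ := exists_perm_map ![x0, w x0, w (w x0), y0, w y0]
        (fun i => ((![0, 1, Q, 2, q - 1] i : ℕ) : ZMod q))
        (by intro i j h; fin_cases i <;> fin_cases j <;> first | rfl | (exfalso; simp at h; grind))
        (injective_cast _ (by intro i j h; fin_cases i <;> fin_cases j <;> simp at h ⊢ <;> omega)
          (by intro i; fin_cases i <;> simp <;> omega))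
        (by omega) s
      have s0 : σ x0 = ((0 : ℕ) : ZMod q) := hσ 0
      have s1 : σ (w x0) = ((1 : ℕ) : ZMod q) := hσ 1
      have s2 : σ (w (w x0)) = ((Q : ℕ) : ZMod q) := hσ 2
      have s3 : σ y0 = ((2 : ℕ) : ZMod q) := hσ 3
      have s4 : σ (w y0) = ((q - 1 : ℕ) : ZMod q) := hσ 4
      refine ⟨σ, hs, ?_⟩
      refine finish_swap hp3 hq ha hpq _ 0 2 (by omega) (by omega) (by omega) ?_ ?_
        ((0 : ℕ) : ZMod q) 0 1 ?_ ?_ (nmod _ _ ?_)
      · rw [← s0, conj_app, s1]; exact addRight_sub _ _ (Or.inr (by omega))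
      · rw [← s3, conj_app, s4]; exact addRight_sub _ _ (Or.inl (by omega))
      · rw [Nat.cast_zero, zero_add, ← s2, conj_app, h3, s0, Nat.cast_zero]
      · rw [← s0, conj_app, s1]
      · rw [Nat.zero_mod, Nat.mod_eq_of_lt hp.one_lt]; omega
    · have h31 : w (w (w x0)) ≠ w x0 := fun h => hx2 (w.injective h)
      have h32 : w (w (w x0)) ≠ w (w x0) := fun h => hx21 (w.injective h)
      have hQ := hQ3 h3
      obtain ⟨σ, hs, hσ⟩ := exists_perm_map ![x0, w x0, w (w x0), w (w (w x0)), y0, w y0]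
        (fun i => ((![0, 1, Q, 3, 2, q - 1] i : ℕ) : ZMod q))
        (by intro i j h; fin_cases i <;> fin_cases j <;> first | rfl | (exfalso; simp at h; grind))
        (injective_cast _ (by intro i j h; fin_cases i <;> fin_cases j <;> simp at h ⊢ <;> omega)
          (by intro i; fin_cases i <;> simp <;> omega))
        (by omega) s
      have s0 : σ x0 = ((0 : ℕ) : ZMod q) := hσ 0
      have s1 : σ (w x0) = ((1 : ℕ) : ZMod q) := hσ 1
      have s2 : σ (w (w x0)) = ((Q : ℕ) : ZMod q) := hσ 2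
      have s3 : σ (w (w (w x0))) = ((3 : ℕ) : ZMod q) := hσ 3
      have s4 : σ y0 = ((2 : ℕ) : ZMod q) := hσ 4
      have s5 : σ (w y0) = ((q - 1 : ℕ) : ZMod q) := hσ 5
      refine ⟨σ, hs, ?_⟩
      refine finish_swap hp3 hq ha hpq _ 0 2 (by omega) (by omega) (by omega) ?_ ?_
        ((0 : ℕ) : ZMod q) 3 1 ?_ ?_ (nmod _ _ ?_)
      · rw [← s0, conj_app, s1]; exact addRight_sub _ _ (Or.inr (by omega))
      · rw [← s4, conj_app, s5]; exact addRight_sub _ _ (Or.inl (by omega))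
      · rw [Nat.cast_zero, zero_add, ← s2, conj_app, s3]
      · rw [← s0, conj_app, s1]
      · rw [Nat.mod_eq_of_lt hp.one_lt]
        rcases Nat.lt_or_ge 3 p with h | h
        · rw [Nat.mod_eq_of_lt h]; omega
        · rw [show p = 3 by omega]; omega

theorem conj_inv_app (h : Perm (ZMod q)) (b : ℕ) :
    (Equiv.addRight (1 : ZMod q) * (h * (Equiv.addRight (1 : ZMod q))⁻¹ * h⁻¹)) (b : ZMod q) =
      Equiv.addRight (1 : ZMod q) (h (h⁻¹ (b : ZMod q) - 1)) := by
  simp [Perm.mul_apply, sub_eq_add_neg]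

theorem swap_fix {b i j : ℕ} (hb : b < q) (hi : i < q) (hj : j < q) (h1 : b ≠ i) (h2 : b ≠ j) :
    Equiv.swap (i : ZMod q) (j : ZMod q) (b : ZMod q) = b :=
  Equiv.swap_apply_of_ne_of_ne (fun h => h1 ((natCast_inj_lt hb hi).1 h))
    (fun h => h2 ((natCast_inj_lt hb hj).1 h))

theorem cast_sub_one (b c : ℕ) (h : b = c + 1 ∨ q + b = c + 1) :
    ((b : ZMod q) - 1) = (c : ZMod q) := by
  rw [sub_eq_iff_eq_add, ← Nat.cast_succ]
  rcases h with h | h
  · rw [h]
  · rw [Nat.succ_eq_add_one, ← h, Nat.cast_add, ZMod.natCast_self, zero_add]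

theorem pow_two_app {β : Type*} (P : Perm β) {x y : β} (h1 : P x = y) (h2 : P y = x) :
    (P ^ 2) x = x := by rw [pow_two, Perm.mul_apply, h1, h2]

theorem pow_three_app {β : Type*} (P : Perm β) {x y z : β} (h1 : P x = y) (h2 : P y = z)
    (h3 : P z = x) : (P ^ 3) x = x := by
  rw [pow_succ, Perm.mul_apply, h1, pow_two, Perm.mul_apply, h2, h3]

theorem pow_four_app {β : Type*} (P : Perm β) {x y z t : β} (h1 : P x = y) (h2 : P y = z)
    (h3 : P z = t) (h4 : P t = x) : (P ^ 4) x = x := by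
  rw [pow_succ, Perm.mul_apply, h1, pow_succ, Perm.mul_apply, h2, pow_two, Perm.mul_apply, h3, h4]

/-- One step of `u h u⁻¹ h⁻¹`. -/
theorem conj_step (h : Perm (ZMod q)) (b c d e f : ℕ) (h1 : h (c : ZMod q) = b)
    (h2 : ((c : ZMod q) - 1) = (d : ZMod q)) (h3 : h (d : ZMod q) = e)
    (h4 : Equiv.addRight (1 : ZMod q) (e : ZMod q) = f) :
    (Equiv.addRight (1 : ZMod q) * (h * (Equiv.addRight (1 : ZMod q))⁻¹ * h⁻¹)) (b : ZMod q) =
      (f : ZMod q) := by
  rw [conj_inv_app, ← h1, Perm.coe_inv, Equiv.symm_apply_apply, h2, h3, h4]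

theorem finish_comm (hp3 : 3 ≤ p) (hq : q = p ^ a) (ha : 1 ≤ a) (h : Perm (ZMod q))
    (m : ℕ) (hm : m.Coprime p) (X Y : ℕ) (hX : X < q) (hY : Y < q) (hXY : X ≠ Y)
    (hper : ((Equiv.addRight (1 : ZMod q) * (h * (Equiv.addRight (1 : ZMod q))⁻¹ * h⁻¹)) ^ m)
      (X : ZMod q) = X)
    (hmove : (Equiv.addRight (1 : ZMod q) * (h * (Equiv.addRight (1 : ZMod q))⁻¹ * h⁻¹))
      (X : ZMod q) = Y)
    (h1 : a = 1 → ∃ b c : ℕ, b < q ∧ c < q ∧ b ≠ c ∧
      (Equiv.addRight (1 : ZMod q) * (h * (Equiv.addRight (1 : ZMod q))⁻¹ * h⁻¹)) (b : ZMod q) = b ∧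
      (Equiv.addRight (1 : ZMod q) * (h * (Equiv.addRight (1 : ZMod q))⁻¹ * h⁻¹)) (c : ZMod q) = c)
    (h2 : 2 ≤ a → ∃ b c d : ℕ, ¬ c ≡ d [MOD p] ∧
      (Equiv.addRight (1 : ZMod q) * (h * (Equiv.addRight (1 : ZMod q))⁻¹ * h⁻¹))
        ((b + p ^ (a - 1) : ℕ) : ZMod q) = c ∧
      (Equiv.addRight (1 : ZMod q) * (h * (Equiv.addRight (1 : ZMod q))⁻¹ * h⁻¹)) (b : ZMod q) = d) :
    (∀ k, (Equiv.addRight (1 : ZMod q) * (h * (Equiv.addRight (1 : ZMod q))⁻¹ * h⁻¹)) ^ (p ^ k) ≠ 1) ∧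
    ¬ Group.IsSolvable ↥(Subgroup.closure ({Equiv.addRight (1 : ZMod q),
      h * (Equiv.addRight (1 : ZMod q))⁻¹ * h⁻¹} : Set (Perm (ZMod q)))) := by
  have hpq : p ∣ q := hq ▸ dvd_pow_self p (by omega)
  set P := Equiv.addRight (1 : ZMod q) * (h * (Equiv.addRight (1 : ZMod q))⁻¹ * h⁻¹) with hP
  have hne : P (X : ZMod q) ≠ X := by
    rw [hmove, Ne, natCast_inj_lt hY hX]; exact fun e => hXY e.symm
  refine ⟨not_ppow P _ hm hper hne, ?_⟩
  have hu : Equiv.addRight (1 : ZMod q) ∈ Subgroup.closure ({Equiv.addRight (1 : ZMod q),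
      h * (Equiv.addRight (1 : ZMod q))⁻¹ * h⁻¹} : Set (Perm (ZMod q))) :=
    Subgroup.subset_closure (Set.mem_insert _ _)
  have hPm : P ∈ Subgroup.closure ({Equiv.addRight (1 : ZMod q),
      h * (Equiv.addRight (1 : ZMod q))⁻¹ * h⁻¹} : Set (Perm (ZMod q))) :=
    Subgroup.mul_mem _ hu (Subgroup.subset_closure (Set.mem_insert_of_mem _ rfl))
  rcases Nat.lt_or_ge a 2 with ha2 | ha2
  · obtain ⟨b, c, hb, hc, hbc, eb, ec⟩ := h1 (by omega)
    exact not_solvable_prime hq (by omega) hpq _ hu P hPm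
      (fun e => hne (by rw [e]; rfl)) _ _ (fun e => hbc ((natCast_inj_lt hb hc).1 e)) eb ec
  · obtain ⟨b, c, d, hcd, ec, ed⟩ := h2 ha2
    refine not_solvable_pow hp3 hq ha2 hpq _ hu ⟨P, hPm, (b : ZMod q), ?_⟩
    rw [← Nat.cast_add, ec, ed]
    exact cast_ne hpq hcd

theorem goodPiece_cycle (hp3 : 3 ≤ p) (hq : q = p ^ a) (ha : 1 ≤ a) (h5 : 5 ≤ q) :
    GoodPiece p (Equiv.addRight (1 : ZMod q)) (Equiv.addRight (1 : ZMod q))⁻¹ := by
  classical
  have hp : p.Prime := Fact.out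
  have i01 : ((0 : ℕ) : ZMod q) ≠ ((1 : ℕ) : ZMod q) := fun e =>
    by simpa using (natCast_inj_lt (by omega) (by omega)).1 e
  have i12 : ((1 : ℕ) : ZMod q) ≠ ((2 : ℕ) : ZMod q) := fun e =>
    by simpa using (natCast_inj_lt (by omega) (by omega)).1 e
  have i02 : ((0 : ℕ) : ZMod q) ≠ ((2 : ℕ) : ZMod q) := fun e =>
    by simpa using (natCast_inj_lt (by omega) (by omega)).1 e
  have i24 : ((2 : ℕ) : ZMod q) ≠ ((4 : ℕ) : ZMod q) := fun e =>
    by simpa using (natCast_inj_lt (by omega) (by omega)).1 e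
  have m0 : ((0 : ℕ) : ZMod q) - 1 = ((q - 1 : ℕ) : ZMod q) := cast_sub_one _ _ (Or.inr (by omega))
  have mm : ∀ b : ℕ, 1 ≤ b → ((b : ℕ) : ZMod q) - 1 = ((b - 1 : ℕ) : ZMod q) :=
    fun b hb => cast_sub_one _ _ (Or.inl (by omega))
  have pp : ∀ b : ℕ, Equiv.addRight (1 : ZMod q) (b : ZMod q) = ((b + 1 : ℕ) : ZMod q) :=
    fun b => addRight_sub _ _ (Or.inr rfl)
  have pw : Equiv.addRight (1 : ZMod q) ((q - 1 : ℕ) : ZMod q) = ((0 : ℕ) : ZMod q) :=
    addRight_sub _ _ (Or.inl (by omega))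
  intro s
  rcases Nat.lt_or_ge a 2 with ha2 | ha2
  · have hpq5 : 5 ≤ p := by
      have : a = 1 := by omega
      rw [this, pow_one] at hq; omega
    have h3p : Nat.Coprime 3 p := (Nat.coprime_primes Nat.prime_three hp).2 (by omega)
    rcases Int.units_eq_one_or s with rfl | rfl
    · -- an even conjugator, a three cycle
      set h := Equiv.swap ((0 : ℕ) : ZMod q) ((1 : ℕ) : ZMod q) *
        Equiv.swap ((1 : ℕ) : ZMod q) ((2 : ℕ) : ZMod q) with hh
      refine ⟨h, by rw [hh, Perm.sign_mul, Perm.sign_swap i01, Perm.sign_swap i12]; decide, ?_⟩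
      have g0 : h ((0 : ℕ) : ZMod q) = ((1 : ℕ) : ZMod q) := by
        rw [hh, Perm.mul_apply, swap_fix (by omega) (by omega) (by omega) (by omega) (by omega),
          Equiv.swap_apply_left]
      have g1 : h ((1 : ℕ) : ZMod q) = ((2 : ℕ) : ZMod q) := by
        rw [hh, Perm.mul_apply, Equiv.swap_apply_left,
          swap_fix (by omega) (by omega) (by omega) (by omega) (by omega)]
      have g2 : h ((2 : ℕ) : ZMod q) = ((0 : ℕ) : ZMod q) := by
        rw [hh, Perm.mul_apply, Equiv.swap_apply_right, Equiv.swap_apply_right]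
      have gf : ∀ b : ℕ, 3 ≤ b → b < q → h (b : ZMod q) = b := by
        intro b hb hb'
        rw [hh, Perm.mul_apply, swap_fix hb' (by omega) (by omega) (by omega) (by omega),
          swap_fix hb' (by omega) (by omega) (by omega) (by omega)]
      have e0 := conj_step h 0 2 1 2 3 g2 (mm 2 (by omega)) g1 (pp 2)
      have e3 := conj_step h 3 3 2 0 1 (gf 3 le_rfl (by omega)) (mm 3 (by omega)) g2 (pp 0)
      have e1 := conj_step h 1 0 (q - 1) (q - 1) 0 g0 m0 (gf (q - 1) (by omega) (by omega)) pw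
      have e2 := conj_step h 2 1 0 1 2 g1 (mm 1 le_rfl) g0 (pp 1)
      have e4 := conj_step h 4 4 3 3 4 (gf 4 (by omega) (by omega)) (mm 4 (by omega))
        (gf 3 le_rfl (by omega)) (pp 3)
      refine finish_comm hp3 hq ha h 3 h3p 0 3 (by omega) (by omega) (by omega) ?_ e0
        (fun _ => ⟨2, 4, by omega, by omega, by omega, e2, e4⟩) (fun h2 => absurd h2 (by omega))
      exact pow_three_app _ e0 e3 e1
    · -- a transposition, a three cycle
      set h := Equiv.swap ((0 : ℕ) : ZMod q) ((1 : ℕ) : ZMod q) with hh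
      refine ⟨h, by rw [hh, Perm.sign_swap i01], ?_⟩
      have g0 : h ((0 : ℕ) : ZMod q) = ((1 : ℕ) : ZMod q) := by rw [hh, Equiv.swap_apply_left]
      have g1 : h ((1 : ℕ) : ZMod q) = ((0 : ℕ) : ZMod q) := by rw [hh, Equiv.swap_apply_right]
      have gf : ∀ b : ℕ, 2 ≤ b → b < q → h (b : ZMod q) = b := fun b hb hb' =>
        swap_fix hb' (by omega) (by omega) (by omega) (by omega)
      have e0 := conj_step h 0 1 0 1 2 g1 (mm 1 le_rfl) g0 (pp 1)
      have e2 := conj_step h 2 2 1 0 1 (gf 2 le_rfl (by omega)) (mm 2 (by omega)) g1 (pp 0)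
      have e1 := conj_step h 1 0 (q - 1) (q - 1) 0 g0 m0 (gf (q - 1) (by omega) (by omega)) pw
      have e3 := conj_step h 3 3 2 2 3 (gf 3 (by omega) (by omega)) (mm 3 (by omega))
        (gf 2 le_rfl (by omega)) (pp 2)
      have e4 := conj_step h 4 4 3 3 4 (gf 4 (by omega) (by omega)) (mm 4 (by omega))
        (gf 3 (by omega) (by omega)) (pp 3)
      refine finish_comm hp3 hq ha h 3 h3p 0 2 (by omega) (by omega) (by omega) ?_ e0
        (fun _ => ⟨3, 4, by omega, by omega, by omega, e3, e4⟩) (fun h2 => absurd h2 (by omega))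
      exact pow_three_app _ e0 e2 e1
  · set Q := p ^ (a - 1) with hQdef
    have hqQ : q = p * Q := by rw [hq, hQdef, ← pow_succ', show a - 1 + 1 = a by omega]
    have hpQ : p ∣ Q := dvd_pow_self p (by omega)
    have hQp : p ≤ Q := Nat.le_of_dvd (Nat.pow_pos hp.pos) hpQ
    have h9 : 3 * Q ≤ q := hqQ ▸ Nat.mul_le_mul_right Q hp3
    have h2p : Nat.Coprime 2 p := (Nat.coprime_primes Nat.prime_two hp).2 (by omega)
    rcases Int.units_eq_one_or s with rfl | rfl
    · set h := Equiv.swap ((0 : ℕ) : ZMod q) ((1 : ℕ) : ZMod q) *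
        Equiv.swap ((2 : ℕ) : ZMod q) ((4 : ℕ) : ZMod q) with hh
      refine ⟨h, by rw [hh, Perm.sign_mul, Perm.sign_swap i01, Perm.sign_swap i24]; decide, ?_⟩
      have g0 : h ((0 : ℕ) : ZMod q) = ((1 : ℕ) : ZMod q) := by
        rw [hh, Perm.mul_apply, swap_fix (by omega) (by omega) (by omega) (by omega) (by omega),
          Equiv.swap_apply_left]
      have g1 : h ((1 : ℕ) : ZMod q) = ((0 : ℕ) : ZMod q) := by
        rw [hh, Perm.mul_apply, swap_fix (by omega) (by omega) (by omega) (by omega) (by omega),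
          Equiv.swap_apply_right]
      have g2 : h ((2 : ℕ) : ZMod q) = ((4 : ℕ) : ZMod q) := by
        rw [hh, Perm.mul_apply, Equiv.swap_apply_left,
          swap_fix (by omega) (by omega) (by omega) (by omega) (by omega)]
      have g4 : h ((4 : ℕ) : ZMod q) = ((2 : ℕ) : ZMod q) := by
        rw [hh, Perm.mul_apply, Equiv.swap_apply_right,
          swap_fix (by omega) (by omega) (by omega) (by omega) (by omega)]
      have gf : ∀ b : ℕ, b = 3 ∨ 5 ≤ b → b < q → h (b : ZMod q) = b := by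
        intro b hb hb'
        rw [hh, Perm.mul_apply, swap_fix hb' (by omega) (by omega) (by omega) (by omega),
          swap_fix hb' (by omega) (by omega) (by omega) (by omega)]
      have e0 := conj_step h 0 1 0 1 2 g1 (mm 1 le_rfl) g0 (pp 1)
      have e2 := conj_step h 2 4 3 3 4 g4 (mm 4 (by omega)) (gf 3 (Or.inl rfl) (by omega)) (pp 3)
      have e4 := conj_step h 4 2 1 0 1 g2 (mm 2 (by omega)) g1 (pp 0)
      have e1 := conj_step h 1 0 (q - 1) (q - 1) 0 g0 m0
        (gf (q - 1) (Or.inr (by omega)) (by omega)) pw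
      have h4p : Nat.Coprime 4 p := (Nat.Coprime.pow_left 2 h2p :)
      refine finish_comm hp3 hq ha h 4 h4p 0 2 (by omega) (by omega) (by omega) ?_ e0
        (fun h1 => absurd h1 (by omega)) (fun _ => ?_)
      · exact pow_four_app _ e0 e2 e4 e1
      · rcases Nat.lt_or_ge Q 4 with hQ | hQ
        · refine ⟨1, 1, 0, ?_, ?_, e1⟩
          · rw [Nat.ModEq, Nat.mod_eq_of_lt hp.one_lt, Nat.zero_mod]; omega
          · rw [show 1 + Q = 4 by omega]; exact e4
        · have hQ5 : 5 ≤ Q := by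
            by_contra hlt
            rw [show Q = 2 * 2 by omega] at hpQ
            have := Nat.le_of_dvd (by norm_num) ((hp.dvd_mul.1 hpQ).elim id id)
            omega
          refine ⟨1, 1 + Q, 0, ?_, ?_, e1⟩
          · rw [Nat.ModEq, Nat.add_mod, Nat.dvd_iff_mod_eq_zero.1 hpQ, Nat.mod_eq_of_lt hp.one_lt,
              Nat.mod_eq_of_lt hp.one_lt, Nat.zero_mod]
            omega
          · exact conj_step h (1 + Q) (1 + Q) Q Q (1 + Q) (gf _ (Or.inr (by omega)) (by omega))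
              (cast_sub_one _ _ (Or.inl (by omega))) (gf _ (Or.inr hQ5) (by omega))
              (addRight_sub _ _ (Or.inr (by omega)))
    · set h := Equiv.swap ((0 : ℕ) : ZMod q) ((2 : ℕ) : ZMod q) with hh
      refine ⟨h, by rw [hh, Perm.sign_swap i02], ?_⟩
      have g0 : h ((0 : ℕ) : ZMod q) = ((2 : ℕ) : ZMod q) := by rw [hh, Equiv.swap_apply_left]
      have g2 : h ((2 : ℕ) : ZMod q) = ((0 : ℕ) : ZMod q) := by rw [hh, Equiv.swap_apply_right]
      have gf : ∀ b : ℕ, b = 1 ∨ 3 ≤ b → b < q → h (b : ZMod q) = b := fun b hb hb' =>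
        swap_fix hb' (by omega) (by omega) (by omega) (by omega)
      have e0 := conj_step h 0 2 1 1 2 g2 (mm 2 (by omega)) (gf 1 (Or.inl rfl) (by omega)) (pp 1)
      have e2 := conj_step h 2 0 (q - 1) (q - 1) 0 g0 m0
        (gf (q - 1) (Or.inr (by omega)) (by omega)) pw
      refine finish_comm hp3 hq ha h 2 h2p 0 2 (by omega) (by omega) (by omega) ?_ e0
        (fun h1 => absurd h1 (by omega)) (fun _ => ⟨2, 2 + Q, 0, ?_, ?_, e2⟩)
      · exact pow_two_app _ e0 e2
      · rw [Nat.ModEq, Nat.add_mod, Nat.dvd_iff_mod_eq_zero.1 hpQ, Nat.add_zero, Nat.mod_mod,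
          Nat.mod_eq_of_lt (by omega : 2 < p), Nat.zero_mod]
        omega
      · exact conj_step h (2 + Q) (2 + Q) (1 + Q) (1 + Q) (2 + Q) (gf _ (Or.inr (by omega)) (by omega))
          (cast_sub_one _ _ (Or.inl (by omega))) (gf _ (Or.inr (by omega)) (by omega))
          (addRight_sub _ _ (Or.inr (by omega)))

end

end CfsgLib.AltPPair
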