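import Cfsg.Agent.Lib.AltPPair.Pieces
import Mathlib.GroupTheory.Perm.Cycle.Type

/-!
The pieces on five and six points for `p = 3`.
-/

set_option autoImplicit false

open Equiv

namespace CfsgLib.AltPPair

/-- Coprime orders `2, 3, 5` in a `(2, 3, 5)` triangle rule out solvability. -/
theorem not_solvable_of_235 {G : Type*} [Group G] (X Y : G) (hX : X ^ 2 = 1) (hY : Y ^ 3 = 1)
    (hXY : (X * Y) ^ 5 = 1) (hY1 : Y ≠ 1) : ¬ Group.IsSolvable G := by
  intro hs
  obtain ⟨n, hn⟩ := (hs : Group.IsSolvable G).solvable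
  have : ∀ m, X ∈ derivedSeries G m ∧ Y ∈ derivedSeries G m := by
    intro m
    induction m with
    | zero => simp
    | succ m ih =>
      set D := derivedSeries G m
      let X' : D := ⟨X, ih.1⟩
      let Y' : D := ⟨Y, ih.2⟩
      have hx : (Abelianization.of X') ^ 2 = 1 := by
        rw [← map_pow, show X' ^ 2 = 1 from Subtype.ext hX, map_one]
      have hy : (Abelianization.of Y') ^ 3 = 1 := by
        rw [← map_pow, show Y' ^ 3 = 1 from Subtype.ext hY, map_one]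
      have hxy : (Abelianization.of X') ^ 5 * (Abelianization.of Y') ^ 5 = 1 := by
        rw [← mul_pow, ← map_mul, ← map_pow, show (X' * Y') ^ 5 = 1 from Subtype.ext hXY, map_one]
      set x := Abelianization.of X'
      set y := Abelianization.of Y'
      have hy0 : y = 1 := by
        have h1 : x * y ^ 2 = 1 := by
          rw [show x ^ 5 = (x ^ 2) ^ 2 * x by rw [← pow_mul, ← pow_succ], hx,
            show y ^ 5 = y ^ 3 * y ^ 2 by rw [← pow_add], hy] at hxy
          simpa using hxy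
        have h2 : (y ^ 2) ^ 2 = 1 := by
          have := congrArg (· ^ 2) h1
          simp only [mul_pow, hx, one_mul, one_pow] at this
          exact this
        rw [← pow_mul, show 2 * 2 = 3 + 1 from rfl, pow_succ, hy, one_mul] at h2
        exact h2
      have hx0 : x = 1 := by
        have : x ^ 5 = 1 := by simpa [hy0] using hxy
        rw [show x ^ 5 = (x ^ 2) ^ 2 * x by rw [← pow_mul, ← pow_succ], hx] at this
        simpa using this
      have hker : ∀ z : D, Abelianization.of z = 1 → (z : G) ∈ derivedSeries G (m + 1) := by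
        intro z hz
        have hzc : z ∈ commutator D := by
          rw [← Abelianization.ker_of]; exact hz
        rw [derivedSeries_succ]
        have := Subgroup.mem_map_of_mem D.subtype hzc
        rwa [Subgroup.map_subtype_commutator] at this
      exact ⟨hker X' hx0, hker Y' hy0⟩
  have := (this n).2
  rw [hn, Subgroup.mem_bot] at this
  exact hY1 this

theorem goodPiece_conj {p : ℕ} {α : Type*} [Fintype α] [DecidableEq α] {c d : Perm α}
    (h : GoodPiece p c d) (τ ρ : Perm α) : GoodPiece p (τ * c * τ⁻¹) (ρ * d * ρ⁻¹) := by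
  intro s
  obtain ⟨σ, hσ, hP, hS⟩ := h (s * Perm.sign τ * Perm.sign ρ)
  refine ⟨τ * σ * ρ⁻¹, ?_, ?_, ?_⟩
  · rw [Perm.sign_mul, Perm.sign_mul, hσ, Perm.sign_inv]
    rcases Int.units_eq_one_or (Perm.sign τ) with h1 | h1 <;>
      rcases Int.units_eq_one_or (Perm.sign ρ) with h2 | h2 <;> simp [h1, h2]
  · intro k hk
    apply hP k
    rw [show τ * c * τ⁻¹ * (τ * σ * ρ⁻¹ * (ρ * d * ρ⁻¹) * (τ * σ * ρ⁻¹)⁻¹) =
      τ * (c * (σ * d * σ⁻¹)) * τ⁻¹ by group, conj_pow] at hk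
    rwa [conj_eq_one_iff] at hk
  · intro hs
    apply hS
    have e : Subgroup.closure ({τ * c * τ⁻¹, τ * σ * ρ⁻¹ * (ρ * d * ρ⁻¹) * (τ * σ * ρ⁻¹)⁻¹} :
        Set (Perm α)) = (Subgroup.closure ({c, σ * d * σ⁻¹} : Set (Perm α))).map
          (MulAut.conj τ).toMonoidHom := by
      rw [MonoidHom.map_closure, Set.image_pair]
      congr 2
      show Singleton.singleton _ = Singleton.singleton (τ * (σ * d * σ⁻¹) * τ⁻¹)
      congr 1
      group
    have e' := (MulEquiv.subgroupCongr e).trans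
      ((Subgroup.closure ({c, σ * d * σ⁻¹} : Set (Perm α))).equivMapOfInjective _
        (MulAut.conj τ).injective).symm
    exact Group.isSolvable_of_surjective (f := e'.toMonoidHom) e'.surjective

theorem goodPiece_of_words {p : ℕ} (hp3 : p = 3) {α : Type*} [Fintype α] [DecidableEq α]
    (c d σ τ : Perm α) (hτ : τ * d = d * τ) (hτs : Perm.sign τ = -1) (m : ℕ) (hm : m.Coprime 3) (x : α)
    (hx : ((c * (σ * d * σ⁻¹)) ^ m) x = x) (hne : (c * (σ * d * σ⁻¹)) x ≠ x)
    (X Y : Perm α) (hXm : X ∈ Subgroup.closure ({c, σ * d * σ⁻¹} : Set (Perm α)))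
    (hYm : Y ∈ Subgroup.closure ({c, σ * d * σ⁻¹} : Set (Perm α)))
    (hX : X ^ 2 = 1) (hY : Y ^ 3 = 1) (hXY : (X * Y) ^ 5 = 1) (hY1 : Y ≠ 1) :
    GoodPiece p c d := by
  subst hp3
  have key : (∀ k, (c * (σ * d * σ⁻¹)) ^ (3 ^ k) ≠ 1) ∧
      ¬ Group.IsSolvable ↥(Subgroup.closure ({c, σ * d * σ⁻¹} : Set (Perm α))) :=
    ⟨not_ppow _ x hm hx hne,
      not_solvable_of_235 ⟨X, hXm⟩ ⟨Y, hYm⟩ (Subtype.ext hX) (Subtype.ext hY) (Subtype.ext hXY)
        (fun h => hY1 (congrArg Subtype.val h))⟩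
  intro s
  rcases eq_or_ne (Perm.sign σ) s with h | h
  · exact ⟨σ, h, key⟩
  · refine ⟨σ * τ, ?_, ?_⟩
    · rw [Perm.sign_mul, hτs, Int.units_ne_iff_eq_neg.1 h]; simp
    · have : σ * τ * d * (σ * τ)⁻¹ = σ * d * σ⁻¹ := by
        rw [mul_assoc σ, hτ]; group
      rw [this]
      exact key

def c5 : Perm (Fin 5) := swap 0 1 * swap 1 2

def c6 : Perm (Fin 6) := swap 0 1 * swap 1 2

def d6 : Perm (Fin 6) := swap 0 1 * swap 1 2 * (swap 3 4 * swap 4 5)

theorem mem_words {G : Type*} [Group G] (u w : G) :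
    u ∈ Subgroup.closure ({u, w} : Set G) ∧ w ∈ Subgroup.closure ({u, w} : Set G) :=
  ⟨Subgroup.subset_closure (Set.mem_insert _ _), Subgroup.subset_closure (Set.mem_insert_of_mem _ rfl)⟩

theorem good55 : GoodPiece 3 c5 c5 := by
  refine goodPiece_of_words rfl c5 c5 (swap 1 3 * swap 2 4) (swap 3 4) (by decide +kernel) (by decide +kernel)
    5 (by decide +kernel) 0 (by decide +kernel) (by decide +kernel) (c5 * c5 * (swap 1 3 * swap 2 4 * c5 * (swap 1 3 * swap 2 4)⁻¹) *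
      c5 * (swap 1 3 * swap 2 4 * c5 * (swap 1 3 * swap 2 4)⁻¹)) c5 ?_ (mem_words _ _).1
    (by decide +kernel) (by decide +kernel) (by decide +kernel) (by decide +kernel)
  obtain ⟨hu, hw⟩ := mem_words c5 (swap 1 3 * swap 2 4 * c5 * (swap 1 3 * swap 2 4 : Perm (Fin 5))⁻¹)
  exact mul_mem (mul_mem (mul_mem (mul_mem hu hu) hw) hu) hw

theorem good_cc : GoodPiece 3 c6 c6 := by
  refine goodPiece_of_words rfl c6 c6 (swap 1 3 * swap 2 4) (swap 3 4) (by decide +kernel) (by decide +kernel)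
    5 (by decide +kernel) 0 (by decide +kernel) (by decide +kernel) (c6 * c6 * (swap 1 3 * swap 2 4 * c6 * (swap 1 3 * swap 2 4)⁻¹) *
      c6 * (swap 1 3 * swap 2 4 * c6 * (swap 1 3 * swap 2 4)⁻¹)) c6 ?_ (mem_words _ _).1
    (by decide +kernel) (by decide +kernel) (by decide +kernel) (by decide +kernel)
  obtain ⟨hu, hw⟩ := mem_words c6 (swap 1 3 * swap 2 4 * c6 * (swap 1 3 * swap 2 4 : Perm (Fin 6))⁻¹)
  exact mul_mem (mul_mem (mul_mem (mul_mem hu hu) hw) hu) hw

theorem good_cd : GoodPiece 3 c6 d6 := by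
  refine goodPiece_of_words rfl c6 d6 (swap 2 3) (swap 0 3 * swap 1 4 * swap 2 5) (by decide +kernel) (by decide +kernel)
    4 (by decide +kernel) 0 (by decide +kernel) (by decide +kernel) (c6 * (swap 2 3 * d6 * (swap 2 3)⁻¹) * c6 *
      (swap 2 3 * d6 * (swap 2 3)⁻¹)) c6 ?_ (mem_words _ _).1
    (by decide +kernel) (by decide +kernel) (by decide +kernel) (by decide +kernel)
  obtain ⟨hu, hw⟩ := mem_words c6 (swap 2 3 * d6 * (swap 2 3 : Perm (Fin 6))⁻¹)
  exact mul_mem (mul_mem (mul_mem hu hw) hu) hw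

theorem good_dc : GoodPiece 3 d6 c6 := by
  refine goodPiece_of_words rfl d6 c6 (swap 2 3) (swap 3 4) (by decide +kernel) (by decide +kernel)
    4 (by decide +kernel) 0 (by decide +kernel) (by decide +kernel) (d6 * (swap 2 3 * c6 * (swap 2 3)⁻¹) * d6 *
      (swap 2 3 * c6 * (swap 2 3)⁻¹)) d6 ?_ (mem_words _ _).1
    (by decide +kernel) (by decide +kernel) (by decide +kernel) (by decide +kernel)
  obtain ⟨hu, hw⟩ := mem_words d6 (swap 2 3 * c6 * (swap 2 3 : Perm (Fin 6))⁻¹)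
  exact mul_mem (mul_mem (mul_mem hu hw) hu) hw

theorem good_dd : GoodPiece 3 d6 d6 := by
  refine goodPiece_of_words rfl d6 d6 (swap 2 3 * swap 4 5) (swap 0 3 * swap 1 4 * swap 2 5)
    (by decide +kernel) (by decide +kernel) 5 (by decide +kernel) 0 (by decide +kernel) (by decide +kernel)
    (d6 * d6 * (swap 2 3 * swap 4 5 * d6 * (swap 2 3 * swap 4 5)⁻¹) *
      d6 * (swap 2 3 * swap 4 5 * d6 * (swap 2 3 * swap 4 5)⁻¹)) d6 ?_ (mem_words _ _).1
    (by decide +kernel) (by decide +kernel) (by decide +kernel) (by decide +kernel)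
  obtain ⟨hu, hw⟩ := mem_words d6 (swap 2 3 * swap 4 5 * d6 * (swap 2 3 * swap 4 5 : Perm (Fin 6))⁻¹)
  exact mul_mem (mul_mem (mul_mem (mul_mem hu hu) hw) hu) hw

theorem cycleType_three {k : ℕ} (u : Perm (Fin k)) (hu : u ^ 3 = 1) (hu1 : u ≠ 1) :
    ∃ j, u.cycleType = Multiset.replicate (j + 1) 3 ∧ 3 * (j + 1) ≤ k := by
  haveI : Fact (Nat.Prime 3) := ⟨Nat.prime_three⟩
  have ho : orderOf u = 3 := orderOf_eq_prime hu hu1
  obtain ⟨j, hj⟩ := Perm.cycleType_prime_order (σ := u) (ho ▸ Nat.prime_three)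
  rw [ho] at hj
  refine ⟨j, hj, ?_⟩
  have := Perm.sum_cycleType u
  rw [hj, Multiset.sum_replicate, smul_eq_mul] at this
  have h2 := u.support.card_le_univ
  rw [Fintype.card_fin] at h2
  omega

theorem conj_five (u : Perm (Fin 5)) (hu : u ^ 3 = 1) (hu1 : u ≠ 1) : ∃ τ, u = τ * c5 * τ⁻¹ := by
  obtain ⟨j, hj, hj'⟩ := cycleType_three u hu hu1
  obtain ⟨i, hi, hi'⟩ := cycleType_three c5 (by decide +kernel) (by decide +kernel)
  have : IsConj c5 u := Perm.isConj_iff_cycleType_eq.2 (by rw [hi, hj, show i = j by omega])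
  obtain ⟨τ, hτ⟩ := isConj_iff.1 this
  exact ⟨τ, hτ.symm⟩

theorem conj_six (u : Perm (Fin 6)) (hu : u ^ 3 = 1) (hu1 : u ≠ 1) :
    (∃ τ, u = τ * c6 * τ⁻¹) ∨ ∃ τ, u = τ * d6 * τ⁻¹ := by
  obtain ⟨j, hj, hj'⟩ := cycleType_three u hu hu1
  obtain ⟨i, hi, hi'⟩ := cycleType_three c6 (by decide +kernel) (by decide +kernel)
  obtain ⟨l, hl, hl'⟩ := cycleType_three d6 (by decide +kernel) (by decide +kernel)
  have si := Perm.sum_cycleType c6
  have sl := Perm.sum_cycleType d6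
  rw [hi, Multiset.sum_replicate, smul_eq_mul, show c6.support.card = 3 by decide +kernel] at si
  rw [hl, Multiset.sum_replicate, smul_eq_mul, show d6.support.card = 6 by decide +kernel] at sl
  rcases (show j = i ∨ j = l by omega) with rfl | rfl
  · have : IsConj c6 u := Perm.isConj_iff_cycleType_eq.2 (by rw [hi, hj])
    obtain ⟨τ, hτ⟩ := isConj_iff.1 this
    exact Or.inl ⟨τ, hτ.symm⟩
  · have : IsConj d6 u := Perm.isConj_iff_cycleType_eq.2 (by rw [hl, hj])
    obtain ⟨τ, hτ⟩ := isConj_iff.1 this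
    exact Or.inr ⟨τ, hτ.symm⟩

theorem goodPiece_five (u w : Perm (Fin 5)) (hu : u ^ 3 = 1) (hu1 : u ≠ 1) (hw : w ^ 3 = 1)
    (hw1 : w ≠ 1) : GoodPiece 3 u w := by
  obtain ⟨τ, rfl⟩ := conj_five u hu hu1
  obtain ⟨ρ, rfl⟩ := conj_five w hw hw1
  exact goodPiece_conj good55 τ ρ

theorem goodPiece_six (u w : Perm (Fin 6)) (hu : u ^ 3 = 1) (hu1 : u ≠ 1) (hw : w ^ 3 = 1)
    (hw1 : w ≠ 1) : GoodPiece 3 u w := by
  rcases conj_six u hu hu1 with ⟨τ, rfl⟩ | ⟨τ, rfl⟩ <;>
    rcases conj_six w hw hw1 with ⟨ρ, rfl⟩ | ⟨ρ, rfl⟩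
  · exact goodPiece_conj good_cc τ ρ
  · exact goodPiece_conj good_cd τ ρ
  · exact goodPiece_conj good_dc τ ρ
  · exact goodPiece_conj good_dd τ ρ

end CfsgLib.AltPPair
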